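import Cfsg.Agent.Spor.C3Sa.D0

set_option autoImplicit false
set_option maxRecDepth 100000000
set_option Elab.async false

namespace Cfsg.Agent.Spor.C3Sa

theorem ok0 : Net.okb 6 n0 = true := by decide +kernel

theorem ok1 : Net.okb 6 n1 = true := by decide +kernel

theorem ok2 : Net.okb 6 n2 = true := by decide +kernel

theorem ok3 : Net.okb 6 n3 = true := by decide +kernel

theorem ok4 : Net.okb 6 n4 = true := by decide +kernel

theorem ok5 : Net.okb 6 n5 = true := by decide +kernel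

theorem ok6 : Net.okb 6 n6 = true := by decide +kernel

theorem ok7 : Net.okb 6 n7 = true := by decide +kernel

theorem rel0 : T.rel 6 [13, 6, 5] 0 6 = true := by decide +kernel

theorem rel1 : T.rel 6 [15, 5, 2, 6, 10, 3, 12, 10, 8, 11] 0 6 = true := by decide +kernel

theorem rel2 : T.rel 6 [1, 1, 1] 0 6 = true := by decide +kernel

theorem rel3 : T.rel 6 [15, 4, 13, 15, 4, 15, 13, 4, 15, 4, 13, 15, 4, 15, 13, 4] 0 6 = true := by decide +kernel

theorem rel4 : T.rel 6 [15, 1, 15, 1, 15, 1] 0 6 = true := by decide +kernel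

theorem rel5 : T.rel 6 [15, 4, 13, 10, 13, 4, 15, 4, 13, 10, 13, 4] 0 6 = true := by decide +kernel

theorem rel6 : T.rel 6 [4, 13, 10, 13, 4, 4, 13, 15, 4, 15, 13, 4, 1, 4, 13, 10, 13, 4, 7, 4, 13, 15, 4, 15, 13, 4] 0 6 = true := by decide +kernel

theorem rel7 : T.rel 6 [4, 13, 10, 13, 4, 1, 4, 13, 10, 13, 4, 7] 0 6 = true := by decide +kernel

theorem rel8 : T.rel 6 [13, 4, 13, 10, 13, 4, 1, 13, 7, 4, 13, 10, 13, 4] 0 6 = true := by decide +kernel

theorem rel9 : T.rel 6 [13, 4, 13, 15, 4, 15, 13, 4, 13, 4, 13, 15, 4, 15, 13, 4] 0 6 = true := by decide +kernel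

theorem rel10 : T.rel 6 [13, 15, 13, 15] 0 6 = true := by decide +kernel

theorem rel11 : T.rel 6 [4, 13, 15, 4, 15, 13, 4, 1, 4, 13, 15, 4, 15, 13, 4, 1, 4, 13, 15, 4, 15, 13, 4, 1, 4, 13, 15, 4, 15, 13, 4, 1] 0 6 = true := by decide +kernel

theorem rel12 : T.rel 6 [15, 4, 13, 15, 4, 15, 13, 4, 1, 15, 4, 13, 15, 4, 15, 13, 4, 1, 15, 4, 13, 15, 4, 15, 13, 4, 1, 4, 13, 15, 4, 15, 13, 4, 15, 1] 0 6 = true := by decide +kernel

theorem rel13 : T.rel 6 [4, 13, 10, 13, 4, 4, 13, 10, 13, 4] 0 6 = true := by decide +kernel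

theorem rel14 : T.rel 6 [4, 13, 15, 4, 15, 13, 4, 4, 13, 15, 4, 15, 13, 4] 0 6 = true := by decide +kernel

theorem rel15 : T.rel 6 [4, 15, 1, 10, 7, 15] 0 6 = true := by decide +kernel

theorem rel16 : T.rel 6 [4, 1, 4, 15, 4, 15, 10, 7, 10, 7] 0 6 = true := by decide +kernel

theorem rel17 : T.rel 6 [13, 13] 0 6 = true := by decide +kernel

theorem rel18 : T.rel 6 [15, 15] 0 6 = true := by decide +kernel

theorem rel19 : T.rel 6 [6, 6, 6] 0 6 = true := by decide +kernel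

theorem rel20 : T.rel 6 [4, 6, 10, 12] 0 6 = true := by decide +kernel

theorem rel21 : T.rel 6 [1, 6, 7, 12] 0 6 = true := by decide +kernel

theorem rel22 : T.rel 6 [3, 3, 3] 0 6 = true := by decide +kernel

theorem rel23 : T.rel 6 [4, 4, 4] 0 6 = true := by decide +kernel

theorem rel24 : T.rel 6 [5, 1, 11, 7] 0 6 = true := by decide +kernel

theorem rel25 : T.rel 6 [7, 10, 8, 1, 4] 0 6 = true := by decide +kernel

theorem rel26 : T.rel 6 [5, 2, 1, 2, 11, 1] 0 6 = true := by decide +kernel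

theorem rel27 : T.rel 6 [2, 10, 2, 10] 0 6 = true := by decide +kernel

theorem rel28 : T.rel 6 [3, 5, 3, 5] 0 6 = true := by decide +kernel

theorem rel29 : T.rel 6 [5, 5, 12, 14] 0 6 = true := by decide +kernel

theorem rel30 : T.rel 6 [7, 10, 11, 8, 5, 9, 1, 4] 0 6 = true := by decide +kernel

theorem rel31 : T.rel 6 [3, 5, 10, 9, 10, 5] 0 6 = true := by decide +kernel

theorem hcov : T.treeCov (ones 63) L 1 = true := by decide +kernel

theorem hg : lall (fun z => band (memL L z) (band (sub (ones 63) (T.let z).cl) (T.closed (ones 63) z))) gs = true := by decide +kernel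

theorem rot1_1 : T.rot 1 [7] (sel (ones 63) ip1 1) = true := by decide +kernel

theorem rot1_1r : band (Rule.ok (2 * 0) EX RL ⟨1 :: [7], [], 30, false⟩) (lall (memL L) [7]) = true := by decide +kernel

theorem rot1_2 : T.rot 1 [1, 1] (sel (ones 63) ip1 2) = true := by decide +kernel

theorem rot1_2r : band (Rule.ok (2 * 0) EX RL ⟨1 :: [1, 1], [], 0, true⟩) (lall (memL L) [1, 1]) = true := by decide +kernel

theorem rot1_3 : T.rot 1 [6, 7, 12] (sel (ones 63) ip1 3) = true := by decide +kernel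

theorem rot1_3r : band (Rule.ok (2 * 0) EX RL ⟨1 :: [6, 7, 12], [], 19, true⟩) (lall (memL L) [6, 7, 12]) = true := by decide +kernel

theorem rot1_4 : T.rot 1 [12, 7, 6] (sel (ones 63) ip1 4) = true := by decide +kernel

theorem rot1_4r : band (Rule.ok (2 * 0) EX RL ⟨1 :: [12, 7, 6], [11], 19, false⟩) (lall (memL L) [12, 7, 6]) = true := by decide +kernel

theorem rot1_5 : T.rot 1 [11, 7, 5] (sel (ones 63) ip1 5) = true := by decide +kernel

theorem rot1_5r : band (Rule.ok (2 * 0) EX RL ⟨1 :: [11, 7, 5], [9], 22, true⟩) (lall (memL L) [11, 7, 5]) = true := by decide +kernel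

theorem rot1_6 : T.rot 1 [5, 7, 11] (sel (ones 63) ip1 6) = true := by decide +kernel

theorem rot1_6r : band (Rule.ok (2 * 0) EX RL ⟨1 :: [5, 7, 11], [], 22, false⟩) (lall (memL L) [5, 7, 11]) = true := by decide +kernel

theorem rot1_7 : T.rot 1 [4, 7, 10, 8] (sel (ones 63) ip1 7) = true := by decide +kernel

theorem rot1_7r : band (Rule.ok (2 * 0) EX RL ⟨1 :: [4, 7, 10, 8], [6, 0], 23, true⟩) (lall (memL L) [4, 7, 10, 8]) = true := by decide +kernel

theorem rot1_8 : T.rot 1 [10, 7, 2, 4] (sel (ones 63) ip1 8) = true := by decide +kernel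

theorem rot1_8r : band (Rule.ok (2 * 0) EX RL ⟨1 :: [10, 7, 2, 4], [0], 23, false⟩) (lall (memL L) [10, 7, 2, 4]) = true := by decide +kernel

theorem rot1_9 : T.rot 1 [4, 7, 16, 10, 16] (sel (ones 63) ip1 9) = true := by decide +kernel

theorem rot1_9r : band (Rule.ok (2 * 0) EX RL ⟨1 :: [4, 7, 16, 10, 16], [9, 3, 11, 6, 5, 10, 6, 2, 8], 13, false⟩) (lall (memL L) [4, 7, 16, 10, 16]) = true := by decide +kernel

theorem rot1_10 : T.rot 1 [2, 11, 1, 5, 2] (sel (ones 63) ip1 10) = true := by decide +kernel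

theorem rot1_10r : band (Rule.ok (2 * 0) EX RL ⟨1 :: [2, 11, 1, 5, 2], [9, 3], 24, true⟩) (lall (memL L) [2, 11, 1, 5, 2]) = true := by decide +kernel

theorem rot1_11 : T.rot 1 [5, 2, 1, 2, 11] (sel (ones 63) ip1 11) = true := by decide +kernel

theorem rot1_11r : band (Rule.ok (2 * 0) EX RL ⟨1 :: [5, 2, 1, 2, 11], [0], 24, true⟩) (lall (memL L) [5, 2, 1, 2, 11]) = true := by decide +kernel

theorem rot1_12 : T.rot 1 [4, 7, 10, 11, 8, 5, 9] (sel (ones 63) ip1 12) = true := by decide +kernel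

theorem rot1_12r : band (Rule.ok (2 * 0) EX RL ⟨1 :: [4, 7, 10, 11, 8, 5, 9], [6, 0], 28, true⟩) (lall (memL L) [4, 7, 10, 11, 8, 5, 9]) = true := by decide +kernel

theorem rot1_13 : T.rot 1 [10, 7, 3, 11, 2, 5, 4] (sel (ones 63) ip1 13) = true := by decide +kernel

theorem rot1_13r : band (Rule.ok (2 * 0) EX RL ⟨1 :: [10, 7, 3, 11, 2, 5, 4], [0], 28, false⟩) (lall (memL L) [10, 7, 3, 11, 2, 5, 4]) = true := by decide +kernel

theorem rot1_14 : T.rot 1 [4, 1, 4, 16, 10, 16, 10, 7, 10] (sel (ones 63) ip1 14) = true := by decide +kernel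

theorem rot1_14r : band (Rule.ok (2 * 0) EX RL ⟨1 :: [4, 1, 4, 16, 10, 16, 10, 7, 10], [], 14, false⟩) (lall (memL L) [4, 1, 4, 16, 10, 16, 10, 7, 10]) = true := by decide +kernel

theorem rot1_15 : T.rot 1 [10, 14, 4, 14, 10, 7, 10, 14, 4, 14, 10] (sel (ones 63) ip1 15) = true := by decide +kernel

theorem rot1_15r : band (Rule.ok (2 * 0) EX RL ⟨1 :: [10, 14, 4, 14, 10, 7, 10, 14, 4, 14, 10], [], 5, false⟩) (lall (memL L) [10, 14, 4, 14, 10, 7, 10, 14, 4, 14, 10]) = true := by decide +kernel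

theorem cov1 : T.cover 1 [(sel (ones 63) ip1 1), (sel (ones 63) ip1 2), (sel (ones 63) ip1 3), (sel (ones 63) ip1 4), (sel (ones 63) ip1 5), (sel (ones 63) ip1 6), (sel (ones 63) ip1 7), (sel (ones 63) ip1 8), (sel (ones 63) ip1 9), (sel (ones 63) ip1 10), (sel (ones 63) ip1 11), (sel (ones 63) ip1 12), (sel (ones 63) ip1 13), (sel (ones 63) ip1 14), (sel (ones 63) ip1 15), 1] = true := by decide +kernel

theorem tl1 : T.treeLt 6 1 = true := by decide +kernel

theorem rot2_1 : T.rot 2 [8] (sel (ones 63) ip2 1) = true := by decide +kernel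

theorem rot2_1r : band (Rule.ok (2 * 0) EX RL ⟨2 :: [8], [], 30, false⟩) (lall (memL L) [8]) = true := by decide +kernel

theorem rot2_2 : T.rot 2 [10, 2, 10] (sel (ones 63) ip2 2) = true := by decide +kernel

theorem rot2_2r : band (Rule.ok (2 * 0) EX RL ⟨2 :: [10, 2, 10], [], 25, true⟩) (lall (memL L) [10, 2, 10]) = true := by decide +kernel

theorem rot2_3 : T.rot 2 [4, 1, 10, 7] (sel (ones 63) ip2 3) = true := by decide +kernel

theorem rot2_3r : band (Rule.ok (2 * 0) EX RL ⟨2 :: [4, 1, 10, 7], [6, 0], 23, false⟩) (lall (memL L) [4, 1, 10, 7]) = true := by decide +kernel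

theorem rot2_4 : T.rot 2 [11, 1, 5, 2, 1] (sel (ones 63) ip2 4) = true := by decide +kernel

theorem rot2_4r : band (Rule.ok (2 * 0) EX RL ⟨2 :: [11, 1, 5, 2, 1], [0, 9, 2], 24, true⟩) (lall (memL L) [11, 1, 5, 2, 1]) = true := by decide +kernel

theorem rot2_5 : T.rot 2 [5, 4, 1, 10, 7, 3, 11] (sel (ones 63) ip2 5) = true := by decide +kernel

theorem rot2_5r : band (Rule.ok (2 * 0) EX RL ⟨2 :: [5, 4, 1, 10, 7, 3, 11], [0, 6, 8, 2], 28, false⟩) (lall (memL L) [5, 4, 1, 10, 7, 3, 11]) = true := by decide +kernel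

theorem rot2_6 : T.rot 2 [4, 6, 9, 4, 12, 8, 11, 16, 5] (sel (ones 63) ip2 6) = true := by decide +kernel

theorem rot2_6r : band (Rule.ok (2 * 0) EX RL ⟨2 :: [4, 6, 9, 4, 12, 8, 11, 16, 5], [], 30, false⟩) (lall (memL L) [4, 6, 9, 4, 12, 8, 11, 16, 5]) = true := by decide +kernel

theorem rot2_7 : T.rot 2 [6, 10, 3, 12, 10, 8, 11, 15, 5] (sel (ones 63) ip2 7) = true := by decide +kernel

theorem rot2_7r : band (Rule.ok (2 * 0) EX RL ⟨2 :: [6, 10, 3, 12, 10, 8, 11, 15, 5], [], 30, false⟩) (lall (memL L) [6, 10, 3, 12, 10, 8, 11, 15, 5]) = true := by decide +kernel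

theorem cov2 : T.cover 2 [(sel (ones 63) ip2 1), (sel (ones 63) ip2 2), (sel (ones 63) ip2 3), (sel (ones 63) ip2 4), (sel (ones 63) ip2 5), (sel (ones 63) ip2 6), (sel (ones 63) ip2 7)] = true := by decide +kernel

theorem tl2 : T.treeLt 6 2 = true := by decide +kernel

theorem rot3_1 : T.rot 3 [9] (sel (ones 63) ip3 1) = true := by decide +kernel

theorem rot3_1r : band (Rule.ok (2 * 0) EX RL ⟨3 :: [9], [], 30, false⟩) (lall (memL L) [9]) = true := by decide +kernel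

theorem rot3_2 : T.rot 3 [3, 3] (sel (ones 63) ip3 2) = true := by decide +kernel

theorem rot3_2r : band (Rule.ok (2 * 0) EX RL ⟨3 :: [3, 3], [], 20, true⟩) (lall (memL L) [3, 3]) = true := by decide +kernel

theorem rot3_3 : T.rot 3 [5, 3, 5] (sel (ones 63) ip3 3) = true := by decide +kernel

theorem rot3_3r : band (Rule.ok (2 * 0) EX RL ⟨3 :: [5, 3, 5], [], 26, true⟩) (lall (memL L) [5, 3, 5]) = true := by decide +kernel

theorem rot3_4 : T.rot 3 [5, 10, 9, 10, 5] (sel (ones 63) ip3 4) = true := by decide +kernel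

theorem rot3_4r : band (Rule.ok (2 * 0) EX RL ⟨3 :: [5, 10, 9, 10, 5], [], 29, true⟩) (lall (memL L) [5, 10, 9, 10, 5]) = true := by decide +kernel

theorem rot3_5 : T.rot 3 [4, 11, 9, 11, 4] (sel (ones 63) ip3 5) = true := by decide +kernel

theorem rot3_5r : band (Rule.ok (2 * 0) EX RL ⟨3 :: [4, 11, 9, 11, 4], [8, 7], 29, false⟩) (lall (memL L) [4, 11, 9, 11, 4]) = true := by decide +kernel

theorem rot3_6 : T.rot 3 [11, 2, 5, 4, 1, 10, 7] (sel (ones 63) ip3 6) = true := by decide +kernel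

theorem rot3_6r : band (Rule.ok (2 * 0) EX RL ⟨3 :: [11, 2, 5, 4, 1, 10, 7], [6, 0], 28, false⟩) (lall (memL L) [11, 2, 5, 4, 1, 10, 7]) = true := by decide +kernel

theorem rot3_7 : T.rot 3 [12, 10, 8, 11, 15, 5, 2, 6, 10] (sel (ones 63) ip3 7) = true := by decide +kernel

theorem rot3_7r : band (Rule.ok (2 * 0) EX RL ⟨3 :: [12, 10, 8, 11, 15, 5, 2, 6, 10], [], 30, false⟩) (lall (memL L) [12, 10, 8, 11, 15, 5, 2, 6, 10]) = true := by decide +kernel

theorem cov3 : T.cover 3 [(sel (ones 63) ip3 1), (sel (ones 63) ip3 2), (sel (ones 63) ip3 3), (sel (ones 63) ip3 4), (sel (ones 63) ip3 5), (sel (ones 63) ip3 6), (sel (ones 63) ip3 7)] = true := by decide +kernel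

theorem tl3 : T.treeLt 6 3 = true := by decide +kernel

theorem rot4_1 : T.rot 4 [10] (sel (ones 63) ip4 1) = true := by decide +kernel

theorem rot4_1r : band (Rule.ok (2 * 0) EX RL ⟨4 :: [10], [], 30, false⟩) (lall (memL L) [10]) = true := by decide +kernel

theorem rot4_2 : T.rot 4 [4, 4] (sel (ones 63) ip4 2) = true := by decide +kernel

theorem rot4_2r : band (Rule.ok (2 * 0) EX RL ⟨4 :: [4, 4], [], 21, true⟩) (lall (memL L) [4, 4]) = true := by decide +kernel

theorem rot4_3 : T.rot 4 [6, 10, 12] (sel (ones 63) ip4 3) = true := by decide +kernel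

theorem rot4_3r : band (Rule.ok (2 * 0) EX RL ⟨4 :: [6, 10, 12], [], 18, true⟩) (lall (memL L) [6, 10, 12]) = true := by decide +kernel

theorem rot4_4 : T.rot 4 [12, 10, 6] (sel (ones 63) ip4 4) = true := by decide +kernel

theorem rot4_4r : band (Rule.ok (2 * 0) EX RL ⟨4 :: [12, 10, 6], [11], 18, false⟩) (lall (memL L) [12, 10, 6]) = true := by decide +kernel

theorem rot4_5 : T.rot 4 [8, 4, 8] (sel (ones 63) ip4 5) = true := by decide +kernel

theorem rot4_5r : band (Rule.ok (2 * 0) EX RL ⟨4 :: [8, 4, 8], [], 25, false⟩) (lall (memL L) [8, 4, 8]) = true := by decide +kernel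

theorem rot4_6 : T.rot 4 [7, 10, 8, 1] (sel (ones 63) ip4 6) = true := by decide +kernel

theorem rot4_6r : band (Rule.ok (2 * 0) EX RL ⟨4 :: [7, 10, 8, 1], [6], 23, true⟩) (lall (memL L) [7, 10, 8, 1]) = true := by decide +kernel

theorem rot4_7 : T.rot 4 [1, 10, 7, 2] (sel (ones 63) ip4 7) = true := by decide +kernel

theorem rot4_7r : band (Rule.ok (2 * 0) EX RL ⟨4 :: [1, 10, 7, 2], [0, 6], 23, false⟩) (lall (memL L) [1, 10, 7, 2]) = true := by decide +kernel

theorem rot4_8 : T.rot 4 [3, 4, 11, 9, 11] (sel (ones 63) ip4 8) = true := by decide +kernel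

theorem rot4_8r : band (Rule.ok (2 * 0) EX RL ⟨4 :: [3, 4, 11, 9, 11], [8], 29, false⟩) (lall (memL L) [3, 4, 11, 9, 11]) = true := by decide +kernel

theorem rot4_9 : T.rot 4 [11, 9, 11, 4, 3] (sel (ones 63) ip4 9) = true := by decide +kernel

theorem rot4_9r : band (Rule.ok (2 * 0) EX RL ⟨4 :: [11, 9, 11, 4, 3], [5, 9, 6], 29, false⟩) (lall (memL L) [11, 9, 11, 4, 3]) = true := by decide +kernel

theorem rot4_10 : T.rot 4 [7, 10, 11, 8, 5, 9, 1] (sel (ones 63) ip4 10) = true := by decide +kernel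

theorem rot4_10r : band (Rule.ok (2 * 0) EX RL ⟨4 :: [7, 10, 11, 8, 5, 9, 1], [6], 28, true⟩) (lall (memL L) [7, 10, 11, 8, 5, 9, 1]) = true := by decide +kernel

theorem rot4_11 : T.rot 4 [1, 4, 15, 4, 15, 10, 7, 10, 7] (sel (ones 63) ip4 11) = true := by decide +kernel

theorem rot4_11r : band (Rule.ok (2 * 0) EX RL ⟨4 :: [1, 4, 15, 4, 15, 10, 7, 10, 7], [], 14, true⟩) (lall (memL L) [1, 4, 15, 4, 15, 10, 7, 10, 7]) = true := by decide +kernel

theorem rot4_12 : T.rot 4 [14, 10, 16, 10, 14, 4, 14, 10, 16, 10, 14] (sel (ones 63) ip4 12) = true := by decide +kernel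

theorem rot4_12r : band (Rule.ok (2 * 0) EX RL ⟨4 :: [14, 10, 16, 10, 14, 4, 14, 10, 16, 10, 14], [6, 11, 9], 3, false⟩) (lall (memL L) [14, 10, 16, 10, 14, 4, 14, 10, 16, 10, 14]) = true := by decide +kernel

theorem rot4_13 : T.rot 4 [4, 13, 15, 4, 15, 13, 4, 4, 13, 15, 4, 15, 13] (sel (ones 63) ip4 13) = true := by decide +kernel

theorem rot4_13r : band (Rule.ok (2 * 0) EX RL ⟨4 :: [4, 13, 15, 4, 15, 13, 4, 4, 13, 15, 4, 15, 13], [6], 12, true⟩) (lall (memL L) [4, 13, 15, 4, 15, 13, 4, 4, 13, 15, 4, 15, 13]) = true := by decide +kernel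

theorem cov4 : T.cover 4 [(sel (ones 63) ip4 1), (sel (ones 63) ip4 2), (sel (ones 63) ip4 3), (sel (ones 63) ip4 4), (sel (ones 63) ip4 5), (sel (ones 63) ip4 6), (sel (ones 63) ip4 7), (sel (ones 63) ip4 8), (sel (ones 63) ip4 9), (sel (ones 63) ip4 10), (sel (ones 63) ip4 11), (sel (ones 63) ip4 12), (sel (ones 63) ip4 13), 1] = true := by decide +kernel

theorem tl4 : T.treeLt 6 4 = true := by decide +kernel

theorem rot5_1 : T.rot 5 [11] (sel (ones 63) ip5 1) = true := by decide +kernel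

theorem rot5_1r : band (Rule.ok (2 * 0) EX RL ⟨5 :: [11], [], 30, false⟩) (lall (memL L) [11]) = true := by decide +kernel

theorem rot5_2 : T.rot 5 [13, 6] (sel (ones 63) ip5 2) = true := by decide +kernel

theorem rot5_2r : band (Rule.ok (2 * 0) EX RL ⟨5 :: [13, 6], [], 30, false⟩) (lall (memL L) [13, 6]) = true := by decide +kernel

theorem rot5_3 : T.rot 5 [1, 11, 7] (sel (ones 63) ip5 3) = true := by decide +kernel

theorem rot5_3r : band (Rule.ok (2 * 0) EX RL ⟨5 :: [1, 11, 7], [], 22, true⟩) (lall (memL L) [1, 11, 7]) = true := by decide +kernel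

theorem rot5_4 : T.rot 5 [7, 11, 1] (sel (ones 63) ip5 4) = true := by decide +kernel

theorem rot5_4r : band (Rule.ok (2 * 0) EX RL ⟨5 :: [7, 11, 1], [1], 22, false⟩) (lall (memL L) [7, 11, 1]) = true := by decide +kernel

theorem rot5_5 : T.rot 5 [3, 5, 3] (sel (ones 63) ip5 5) = true := by decide +kernel

theorem rot5_5r : band (Rule.ok (2 * 0) EX RL ⟨5 :: [3, 5, 3], [8], 26, true⟩) (lall (memL L) [3, 5, 3]) = true := by decide +kernel

theorem rot5_6 : T.rot 5 [5, 12, 14] (sel (ones 63) ip5 6) = true := by decide +kernel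

theorem rot5_6r : band (Rule.ok (2 * 0) EX RL ⟨5 :: [5, 12, 14], [], 27, true⟩) (lall (memL L) [5, 12, 14]) = true := by decide +kernel

theorem rot5_7 : T.rot 5 [12, 14, 5] (sel (ones 63) ip5 7) = true := by decide +kernel

theorem rot5_7r : band (Rule.ok (2 * 0) EX RL ⟨5 :: [12, 14, 5], [], 27, true⟩) (lall (memL L) [12, 14, 5]) = true := by decide +kernel

theorem rot5_8 : T.rot 5 [3, 5, 10, 9, 10] (sel (ones 63) ip5 8) = true := by decide +kernel

theorem rot5_8r : band (Rule.ok (2 * 0) EX RL ⟨5 :: [3, 5, 10, 9, 10], [8], 29, true⟩) (lall (memL L) [3, 5, 10, 9, 10]) = true := by decide +kernel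

theorem rot5_9 : T.rot 5 [9, 1, 4, 7, 10, 11, 8] (sel (ones 63) ip5 9) = true := by decide +kernel

theorem rot5_9r : band (Rule.ok (2 * 0) EX RL ⟨5 :: [9, 1, 4, 7, 10, 11, 8], [6, 0, 5, 8], 28, true⟩) (lall (memL L) [9, 1, 4, 7, 10, 11, 8]) = true := by decide +kernel

theorem rot5_10 : T.rot 5 [4, 1, 10, 7, 3, 11, 2] (sel (ones 63) ip5 10) = true := by decide +kernel

theorem rot5_10r : band (Rule.ok (2 * 0) EX RL ⟨5 :: [4, 1, 10, 7, 3, 11, 2], [0, 6, 8], 28, false⟩) (lall (memL L) [4, 1, 10, 7, 3, 11, 2]) = true := by decide +kernel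

theorem cov5 : T.cover 5 [(sel (ones 63) ip5 1), (sel (ones 63) ip5 2), (sel (ones 63) ip5 3), (sel (ones 63) ip5 4), (sel (ones 63) ip5 5), (sel (ones 63) ip5 6), (sel (ones 63) ip5 7), (sel (ones 63) ip5 8), (sel (ones 63) ip5 9), (sel (ones 63) ip5 10)] = true := by decide +kernel

theorem tl5 : T.treeLt 6 5 = true := by decide +kernel

theorem rot6_1 : T.rot 6 [12] (sel (ones 63) ip6 1) = true := by decide +kernel

theorem rot6_1r : band (Rule.ok (2 * 0) EX RL ⟨6 :: [12], [], 30, false⟩) (lall (memL L) [12]) = true := by decide +kernel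

theorem rot6_2 : T.rot 6 [6, 6] (sel (ones 63) ip6 2) = true := by decide +kernel

theorem rot6_2r : band (Rule.ok (2 * 0) EX RL ⟨6 :: [6, 6], [], 17, true⟩) (lall (memL L) [6, 6]) = true := by decide +kernel

theorem rot6_3 : T.rot 6 [5, 13] (sel (ones 63) ip6 3) = true := by decide +kernel

theorem rot6_3r : band (Rule.ok (2 * 0) EX RL ⟨6 :: [5, 13], [], 30, false⟩) (lall (memL L) [5, 13]) = true := by decide +kernel

theorem rot6_4 : T.rot 6 [10, 12, 4] (sel (ones 63) ip6 4) = true := by decide +kernel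

theorem rot6_4r : band (Rule.ok (2 * 0) EX RL ⟨6 :: [10, 12, 4], [7], 18, true⟩) (lall (memL L) [10, 12, 4]) = true := by decide +kernel

theorem rot6_5 : T.rot 6 [4, 12, 10] (sel (ones 63) ip6 5) = true := by decide +kernel

theorem rot6_5r : band (Rule.ok (2 * 0) EX RL ⟨6 :: [4, 12, 10], [], 18, false⟩) (lall (memL L) [4, 12, 10]) = true := by decide +kernel

theorem rot6_6 : T.rot 6 [7, 12, 1] (sel (ones 63) ip6 6) = true := by decide +kernel

theorem rot6_6r : band (Rule.ok (2 * 0) EX RL ⟨6 :: [7, 12, 1], [1], 19, true⟩) (lall (memL L) [7, 12, 1]) = true := by decide +kernel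

theorem rot6_7 : T.rot 6 [1, 12, 7] (sel (ones 63) ip6 7) = true := by decide +kernel

theorem rot6_7r : band (Rule.ok (2 * 0) EX RL ⟨6 :: [1, 12, 7], [], 19, false⟩) (lall (memL L) [1, 12, 7]) = true := by decide +kernel

theorem rot6_8 : T.rot 6 [11, 11, 13] (sel (ones 63) ip6 8) = true := by decide +kernel

theorem rot6_8r : band (Rule.ok (2 * 0) EX RL ⟨6 :: [11, 11, 13], [10], 27, false⟩) (lall (memL L) [11, 11, 13]) = true := by decide +kernel

theorem rot6_9 : T.rot 6 [9, 4, 12, 8, 11, 16, 5, 2, 4] (sel (ones 63) ip6 9) = true := by decide +kernel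

theorem rot6_9r : band (Rule.ok (2 * 0) EX RL ⟨6 :: [9, 4, 12, 8, 11, 16, 5, 2, 4], [], 30, false⟩) (lall (memL L) [9, 4, 12, 8, 11, 16, 5, 2, 4]) = true := by decide +kernel

theorem rot6_10 : T.rot 6 [10, 3, 12, 10, 8, 11, 15, 5, 2] (sel (ones 63) ip6 10) = true := by decide +kernel

theorem rot6_10r : band (Rule.ok (2 * 0) EX RL ⟨6 :: [10, 3, 12, 10, 8, 11, 15, 5, 2], [], 30, false⟩) (lall (memL L) [10, 3, 12, 10, 8, 11, 15, 5, 2]) = true := by decide +kernel

theorem cov6 : T.cover 6 [(sel (ones 63) ip6 1), (sel (ones 63) ip6 2), (sel (ones 63) ip6 3), (sel (ones 63) ip6 4), (sel (ones 63) ip6 5), (sel (ones 63) ip6 6), (sel (ones 63) ip6 7), (sel (ones 63) ip6 8), (sel (ones 63) ip6 9), (sel (ones 63) ip6 10)] = true := by decide +kernel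

theorem tl6 : T.treeLt 6 6 = true := by decide +kernel

theorem rot7_1 : T.rot 7 [1] (sel (ones 63) ip7 1) = true := by decide +kernel

theorem rot7_1r : band (Rule.ok (2 * 0) EX RL ⟨7 :: [1], [], 30, false⟩) (lall (memL L) [1]) = true := by decide +kernel

theorem rot7_2 : T.rot 7 [7, 7] (sel (ones 63) ip7 2) = true := by decide +kernel

theorem rot7_2r : band (Rule.ok (2 * 0) EX RL ⟨7 :: [7, 7], [], 0, false⟩) (lall (memL L) [7, 7]) = true := by decide +kernel

theorem rot7_3 : T.rot 7 [12, 1, 6] (sel (ones 63) ip7 3) = true := by decide +kernel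

theorem rot7_3r : band (Rule.ok (2 * 0) EX RL ⟨7 :: [12, 1, 6], [11, 1], 19, true⟩) (lall (memL L) [12, 1, 6]) = true := by decide +kernel

theorem rot7_4 : T.rot 7 [6, 1, 12] (sel (ones 63) ip7 4) = true := by decide +kernel

theorem rot7_4r : band (Rule.ok (2 * 0) EX RL ⟨7 :: [6, 1, 12], [1], 19, false⟩) (lall (memL L) [6, 1, 12]) = true := by decide +kernel

theorem rot7_5 : T.rot 7 [5, 1, 11] (sel (ones 63) ip7 5) = true := by decide +kernel

theorem rot7_5r : band (Rule.ok (2 * 0) EX RL ⟨7 :: [5, 1, 11], [1], 22, true⟩) (lall (memL L) [5, 1, 11]) = true := by decide +kernel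

theorem rot7_6 : T.rot 7 [11, 1, 5] (sel (ones 63) ip7 6) = true := by decide +kernel

theorem rot7_6r : band (Rule.ok (2 * 0) EX RL ⟨7 :: [11, 1, 5], [9, 1], 22, false⟩) (lall (memL L) [11, 1, 5]) = true := by decide +kernel

theorem rot7_7 : T.rot 7 [10, 8, 1, 4] (sel (ones 63) ip7 7) = true := by decide +kernel

theorem rot7_7r : band (Rule.ok (2 * 0) EX RL ⟨7 :: [10, 8, 1, 4], [], 23, true⟩) (lall (memL L) [10, 8, 1, 4]) = true := by decide +kernel

theorem rot7_8 : T.rot 7 [2, 4, 1, 10] (sel (ones 63) ip7 8) = true := by decide +kernel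

theorem rot7_8r : band (Rule.ok (2 * 0) EX RL ⟨7 :: [2, 4, 1, 10], [6], 23, false⟩) (lall (memL L) [2, 4, 1, 10]) = true := by decide +kernel

theorem rot7_9 : T.rot 7 [15, 4, 15, 1, 10] (sel (ones 63) ip7 9) = true := by decide +kernel

theorem rot7_9r : band (Rule.ok (2 * 0) EX RL ⟨7 :: [15, 4, 15, 1, 10], [9, 3, 11, 6, 5, 10, 6, 2, 8, 1], 13, true⟩) (lall (memL L) [15, 4, 15, 1, 10]) = true := by decide +kernel

theorem rot7_10 : T.rot 7 [5, 8, 7, 8, 11] (sel (ones 63) ip7 10) = true := by decide +kernel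

theorem rot7_10r : band (Rule.ok (2 * 0) EX RL ⟨7 :: [5, 8, 7, 8, 11], [], 24, false⟩) (lall (memL L) [5, 8, 7, 8, 11]) = true := by decide +kernel

theorem rot7_11 : T.rot 7 [8, 11, 7, 5, 8] (sel (ones 63) ip7 11) = true := by decide +kernel

theorem rot7_11r : band (Rule.ok (2 * 0) EX RL ⟨7 :: [8, 11, 7, 5, 8], [9, 3, 1], 24, false⟩) (lall (memL L) [8, 11, 7, 5, 8]) = true := by decide +kernel

theorem rot7_12 : T.rot 7 [10, 11, 8, 5, 9, 1, 4] (sel (ones 63) ip7 12) = true := by decide +kernel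

theorem rot7_12r : band (Rule.ok (2 * 0) EX RL ⟨7 :: [10, 11, 8, 5, 9, 1, 4], [], 28, true⟩) (lall (memL L) [10, 11, 8, 5, 9, 1, 4]) = true := by decide +kernel

theorem rot7_13 : T.rot 7 [3, 11, 2, 5, 4, 1, 10] (sel (ones 63) ip7 13) = true := by decide +kernel

theorem rot7_13r : band (Rule.ok (2 * 0) EX RL ⟨7 :: [3, 11, 2, 5, 4, 1, 10], [6], 28, false⟩) (lall (memL L) [3, 11, 2, 5, 4, 1, 10]) = true := by decide +kernel

theorem rot7_14 : T.rot 7 [4, 13, 10, 13, 4, 1, 4, 13, 10, 13, 4] (sel (ones 63) ip7 14) = true := by decide +kernel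

theorem rot7_14r : band (Rule.ok (2 * 0) EX RL ⟨7 :: [4, 13, 10, 13, 4, 1, 4, 13, 10, 13, 4], [1], 5, true⟩) (lall (memL L) [4, 13, 10, 13, 4, 1, 4, 13, 10, 13, 4]) = true := by decide +kernel

theorem cov7 : T.cover 7 [(sel (ones 63) ip7 1), (sel (ones 63) ip7 2), (sel (ones 63) ip7 3), (sel (ones 63) ip7 4), (sel (ones 63) ip7 5), (sel (ones 63) ip7 6), (sel (ones 63) ip7 7), (sel (ones 63) ip7 8), (sel (ones 63) ip7 9), (sel (ones 63) ip7 10), (sel (ones 63) ip7 11), (sel (ones 63) ip7 12), (sel (ones 63) ip7 13), (sel (ones 63) ip7 14)] = true := by decide +kernel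

theorem tl7 : T.treeLt 6 7 = true := by decide +kernel

theorem rot8_1 : T.rot 8 [2] (sel (ones 63) ip8 1) = true := by decide +kernel

theorem rot8_1r : band (Rule.ok (2 * 0) EX RL ⟨8 :: [2], [], 30, false⟩) (lall (memL L) [2]) = true := by decide +kernel

theorem rot8_2 : T.rot 8 [4, 8, 4] (sel (ones 63) ip8 2) = true := by decide +kernel

theorem rot8_2r : band (Rule.ok (2 * 0) EX RL ⟨8 :: [4, 8, 4], [3], 25, false⟩) (lall (memL L) [4, 8, 4]) = true := by decide +kernel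

theorem rot8_3 : T.rot 8 [1, 4, 7, 10] (sel (ones 63) ip8 3) = true := by decide +kernel

theorem rot8_3r : band (Rule.ok (2 * 0) EX RL ⟨8 :: [1, 4, 7, 10], [0, 6], 23, true⟩) (lall (memL L) [1, 4, 7, 10]) = true := by decide +kernel

theorem rot8_4 : T.rot 8 [7, 8, 11, 7, 5] (sel (ones 63) ip8 4) = true := by decide +kernel

theorem rot8_4r : band (Rule.ok (2 * 0) EX RL ⟨8 :: [7, 8, 11, 7, 5], [0, 9], 24, false⟩) (lall (memL L) [7, 8, 11, 7, 5]) = true := by decide +kernel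

theorem rot8_5 : T.rot 8 [11, 7, 5, 8, 7] (sel (ones 63) ip8 5) = true := by decide +kernel

theorem rot8_5r : band (Rule.ok (2 * 0) EX RL ⟨8 :: [11, 7, 5, 8, 7], [9, 3], 24, false⟩) (lall (memL L) [11, 7, 5, 8, 7]) = true := by decide +kernel

theorem rot8_6 : T.rot 8 [5, 9, 1, 4, 7, 10, 11] (sel (ones 63) ip8 6) = true := by decide +kernel

theorem rot8_6r : band (Rule.ok (2 * 0) EX RL ⟨8 :: [5, 9, 1, 4, 7, 10, 11], [0, 6, 8], 28, true⟩) (lall (memL L) [5, 9, 1, 4, 7, 10, 11]) = true := by decide +kernel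

theorem rot8_7 : T.rot 8 [11, 16, 5, 2, 4, 6, 9, 4, 12] (sel (ones 63) ip8 7) = true := by decide +kernel

theorem rot8_7r : band (Rule.ok (2 * 0) EX RL ⟨8 :: [11, 16, 5, 2, 4, 6, 9, 4, 12], [], 30, false⟩) (lall (memL L) [11, 16, 5, 2, 4, 6, 9, 4, 12]) = true := by decide +kernel

theorem rot8_8 : T.rot 8 [11, 15, 5, 2, 6, 10, 3, 12, 10] (sel (ones 63) ip8 8) = true := by decide +kernel

theorem rot8_8r : band (Rule.ok (2 * 0) EX RL ⟨8 :: [11, 15, 5, 2, 6, 10, 3, 12, 10], [], 30, false⟩) (lall (memL L) [11, 15, 5, 2, 6, 10, 3, 12, 10]) = true := by decide +kernel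

theorem cov8 : T.cover 8 [(sel (ones 63) ip8 1), (sel (ones 63) ip8 2), (sel (ones 63) ip8 3), (sel (ones 63) ip8 4), (sel (ones 63) ip8 5), (sel (ones 63) ip8 6), (sel (ones 63) ip8 7), (sel (ones 63) ip8 8)] = true := by decide +kernel

theorem tl8 : T.treeLt 6 8 = true := by decide +kernel

theorem rot9_1 : T.rot 9 [3] (sel (ones 63) ip9 1) = true := by decide +kernel

theorem rot9_1r : band (Rule.ok (2 * 0) EX RL ⟨9 :: [3], [], 30, false⟩) (lall (memL L) [3]) = true := by decide +kernel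

theorem rot9_2 : T.rot 9 [9, 9] (sel (ones 63) ip9 2) = true := by decide +kernel

theorem rot9_2r : band (Rule.ok (2 * 0) EX RL ⟨9 :: [9, 9], [], 20, false⟩) (lall (memL L) [9, 9]) = true := by decide +kernel

theorem rot9_3 : T.rot 9 [11, 9, 11] (sel (ones 63) ip9 3) = true := by decide +kernel

theorem rot9_3r : band (Rule.ok (2 * 0) EX RL ⟨9 :: [11, 9, 11], [5], 26, false⟩) (lall (memL L) [11, 9, 11]) = true := by decide +kernel

theorem rot9_4 : T.rot 9 [10, 5, 3, 5, 10] (sel (ones 63) ip9 4) = true := by decide +kernel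

theorem rot9_4r : band (Rule.ok (2 * 0) EX RL ⟨9 :: [10, 5, 3, 5, 10], [8, 7, 5], 29, true⟩) (lall (memL L) [10, 5, 3, 5, 10]) = true := by decide +kernel

theorem rot9_5 : T.rot 9 [11, 4, 3, 4, 11] (sel (ones 63) ip9 5) = true := by decide +kernel

theorem rot9_5r : band (Rule.ok (2 * 0) EX RL ⟨9 :: [11, 4, 3, 4, 11], [5], 29, false⟩) (lall (memL L) [11, 4, 3, 4, 11]) = true := by decide +kernel

theorem rot9_6 : T.rot 9 [1, 4, 7, 10, 11, 8, 5] (sel (ones 63) ip9 6) = true := by decide +kernel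

theorem rot9_6r : band (Rule.ok (2 * 0) EX RL ⟨9 :: [1, 4, 7, 10, 11, 8, 5], [6, 0, 5], 28, true⟩) (lall (memL L) [1, 4, 7, 10, 11, 8, 5]) = true := by decide +kernel

theorem rot9_7 : T.rot 9 [4, 12, 8, 11, 16, 5, 2, 4, 6] (sel (ones 63) ip9 7) = true := by decide +kernel

theorem rot9_7r : band (Rule.ok (2 * 0) EX RL ⟨9 :: [4, 12, 8, 11, 16, 5, 2, 4, 6], [], 30, false⟩) (lall (memL L) [4, 12, 8, 11, 16, 5, 2, 4, 6]) = true := by decide +kernel

theorem cov9 : T.cover 9 [(sel (ones 63) ip9 1), (sel (ones 63) ip9 2), (sel (ones 63) ip9 3), (sel (ones 63) ip9 4), (sel (ones 63) ip9 5), (sel (ones 63) ip9 6), (sel (ones 63) ip9 7)] = true := by decide +kernel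

theorem tl9 : T.treeLt 6 9 = true := by decide +kernel

theorem rot10_1 : T.rot 10 [4] (sel (ones 63) ip10 1) = true := by decide +kernel

theorem rot10_1r : band (Rule.ok (2 * 0) EX RL ⟨10 :: [4], [], 30, false⟩) (lall (memL L) [4]) = true := by decide +kernel

theorem rot10_2 : T.rot 10 [10, 10] (sel (ones 63) ip10 2) = true := by decide +kernel

theorem rot10_2r : band (Rule.ok (2 * 0) EX RL ⟨10 :: [10, 10], [], 21, false⟩) (lall (memL L) [10, 10]) = true := by decide +kernel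

theorem rot10_3 : T.rot 10 [12, 4, 6] (sel (ones 63) ip10 3) = true := by decide +kernel

theorem rot10_3r : band (Rule.ok (2 * 0) EX RL ⟨10 :: [12, 4, 6], [11, 7], 18, true⟩) (lall (memL L) [12, 4, 6]) = true := by decide +kernel

theorem rot10_4 : T.rot 10 [6, 4, 12] (sel (ones 63) ip10 4) = true := by decide +kernel

theorem rot10_4r : band (Rule.ok (2 * 0) EX RL ⟨10 :: [6, 4, 12], [7], 18, false⟩) (lall (memL L) [6, 4, 12]) = true := by decide +kernel

theorem rot10_5 : T.rot 10 [2, 10, 2] (sel (ones 63) ip10 5) = true := by decide +kernel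

theorem rot10_5r : band (Rule.ok (2 * 0) EX RL ⟨10 :: [2, 10, 2], [7], 25, true⟩) (lall (memL L) [2, 10, 2]) = true := by decide +kernel

theorem rot10_6 : T.rot 10 [8, 1, 4, 7] (sel (ones 63) ip10 6) = true := by decide +kernel

theorem rot10_6r : band (Rule.ok (2 * 0) EX RL ⟨10 :: [8, 1, 4, 7], [0], 23, true⟩) (lall (memL L) [8, 1, 4, 7]) = true := by decide +kernel

theorem rot10_7 : T.rot 10 [7, 2, 4, 1] (sel (ones 63) ip10 7) = true := by decide +kernel

theorem rot10_7r : band (Rule.ok (2 * 0) EX RL ⟨10 :: [7, 2, 4, 1], [], 23, false⟩) (lall (memL L) [7, 2, 4, 1]) = true := by decide +kernel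

theorem rot10_8 : T.rot 10 [9, 10, 5, 3, 5] (sel (ones 63) ip10 8) = true := by decide +kernel

theorem rot10_8r : band (Rule.ok (2 * 0) EX RL ⟨10 :: [9, 10, 5, 3, 5], [5, 9], 29, true⟩) (lall (memL L) [9, 10, 5, 3, 5]) = true := by decide +kernel

theorem rot10_9 : T.rot 10 [5, 3, 5, 10, 9] (sel (ones 63) ip10 9) = true := by decide +kernel

theorem rot10_9r : band (Rule.ok (2 * 0) EX RL ⟨10 :: [5, 3, 5, 10, 9], [8, 7], 29, true⟩) (lall (memL L) [5, 3, 5, 10, 9]) = true := by decide +kernel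

theorem rot10_10 : T.rot 10 [7, 3, 11, 2, 5, 4, 1] (sel (ones 63) ip10 10) = true := by decide +kernel

theorem rot10_10r : band (Rule.ok (2 * 0) EX RL ⟨10 :: [7, 3, 11, 2, 5, 4, 1], [], 28, false⟩) (lall (memL L) [7, 3, 11, 2, 5, 4, 1]) = true := by decide +kernel

theorem rot10_11 : T.rot 10 [7, 4, 1, 4, 15, 4, 15, 10, 7] (sel (ones 63) ip10 11) = true := by decide +kernel

theorem rot10_11r : band (Rule.ok (2 * 0) EX RL ⟨10 :: [7, 4, 1, 4, 15, 4, 15, 10, 7], [1, 7], 14, true⟩) (lall (memL L) [7, 4, 1, 4, 15, 4, 15, 10, 7]) = true := by decide +kernel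

theorem rot10_12 : T.rot 10 [7, 10, 1, 4, 1, 4, 16, 10, 16] (sel (ones 63) ip10 12) = true := by decide +kernel

theorem rot10_12r : band (Rule.ok (2 * 0) EX RL ⟨10 :: [7, 10, 1, 4, 1, 4, 16, 10, 16], [7, 1, 7], 14, false⟩) (lall (memL L) [7, 10, 1, 4, 1, 4, 16, 10, 16]) = true := by decide +kernel

theorem rot10_13 : T.rot 10 [1, 4, 1, 4, 16, 10, 16, 10, 7] (sel (ones 63) ip10 13) = true := by decide +kernel

theorem rot10_13r : band (Rule.ok (2 * 0) EX RL ⟨10 :: [1, 4, 1, 4, 16, 10, 16, 10, 7], [7], 14, false⟩) (lall (memL L) [1, 4, 1, 4, 16, 10, 16, 10, 7]) = true := by decide +kernel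

theorem rot10_14 : T.rot 10 [13, 4, 15, 4, 13, 10, 13, 4, 15, 4, 13] (sel (ones 63) ip10 14) = true := by decide +kernel

theorem rot10_14r : band (Rule.ok (2 * 0) EX RL ⟨10 :: [13, 4, 15, 4, 13, 10, 13, 4, 15, 4, 13], [6, 11, 9, 7], 3, true⟩) (lall (memL L) [13, 4, 15, 4, 13, 10, 13, 4, 15, 4, 13]) = true := by decide +kernel

theorem rot10_15 : T.rot 10 [14, 16, 10, 16, 14, 10, 10, 14, 16, 10, 16, 14, 10] (sel (ones 63) ip10 15) = true := by decide +kernel

theorem rot10_15r : band (Rule.ok (2 * 0) EX RL ⟨10 :: [14, 16, 10, 16, 14, 10, 10, 14, 16, 10, 16, 14, 10], [], 12, false⟩) (lall (memL L) [14, 16, 10, 16, 14, 10, 10, 14, 16, 10, 16, 14, 10]) = true := by decide +kernel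

theorem cov10 : T.cover 10 [(sel (ones 63) ip10 1), (sel (ones 63) ip10 2), (sel (ones 63) ip10 3), (sel (ones 63) ip10 4), (sel (ones 63) ip10 5), (sel (ones 63) ip10 6), (sel (ones 63) ip10 7), (sel (ones 63) ip10 8), (sel (ones 63) ip10 9), (sel (ones 63) ip10 10), (sel (ones 63) ip10 11), (sel (ones 63) ip10 12), (sel (ones 63) ip10 13), (sel (ones 63) ip10 14), (sel (ones 63) ip10 15)] = true := by decide +kernel

theorem tl10 : T.treeLt 6 10 = true := by decide +kernel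

theorem rot11_1 : T.rot 11 [5] (sel (ones 63) ip11 1) = true := by decide +kernel

theorem rot11_1r : band (Rule.ok (2 * 0) EX RL ⟨11 :: [5], [], 30, false⟩) (lall (memL L) [5]) = true := by decide +kernel

theorem rot11_2 : T.rot 11 [12, 14] (sel (ones 63) ip11 2) = true := by decide +kernel

theorem rot11_2r : band (Rule.ok (2 * 0) EX RL ⟨11 :: [12, 14], [], 30, false⟩) (lall (memL L) [12, 14]) = true := by decide +kernel

theorem rot11_3 : T.rot 11 [7, 5, 1] (sel (ones 63) ip11 3) = true := by decide +kernel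

theorem rot11_3r : band (Rule.ok (2 * 0) EX RL ⟨11 :: [7, 5, 1], [1, 9], 22, true⟩) (lall (memL L) [7, 5, 1]) = true := by decide +kernel

theorem rot11_4 : T.rot 11 [1, 5, 7] (sel (ones 63) ip11 4) = true := by decide +kernel

theorem rot11_4r : band (Rule.ok (2 * 0) EX RL ⟨11 :: [1, 5, 7], [9], 22, false⟩) (lall (memL L) [1, 5, 7]) = true := by decide +kernel

theorem rot11_5 : T.rot 11 [9, 11, 9] (sel (ones 63) ip11 5) = true := by decide +kernel

theorem rot11_5r : band (Rule.ok (2 * 0) EX RL ⟨11 :: [9, 11, 9], [], 26, false⟩) (lall (memL L) [9, 11, 9]) = true := by decide +kernel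

theorem rot11_6 : T.rot 11 [11, 13, 6] (sel (ones 63) ip11 6) = true := by decide +kernel

theorem rot11_6r : band (Rule.ok (2 * 0) EX RL ⟨11 :: [11, 13, 6], [], 27, false⟩) (lall (memL L) [11, 13, 6]) = true := by decide +kernel

theorem rot11_7 : T.rot 11 [13, 6, 11] (sel (ones 63) ip11 7) = true := by decide +kernel

theorem rot11_7r : band (Rule.ok (2 * 0) EX RL ⟨11 :: [13, 6, 11], [], 27, false⟩) (lall (memL L) [13, 6, 11]) = true := by decide +kernel

theorem rot11_8 : T.rot 11 [4, 3, 4, 11, 9] (sel (ones 63) ip11 8) = true := by decide +kernel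

theorem rot11_8r : band (Rule.ok (2 * 0) EX RL ⟨11 :: [4, 3, 4, 11, 9], [], 29, false⟩) (lall (memL L) [4, 3, 4, 11, 9]) = true := by decide +kernel

theorem rot11_9 : T.rot 11 [9, 11, 4, 3, 4] (sel (ones 63) ip11 9) = true := by decide +kernel

theorem rot11_9r : band (Rule.ok (2 * 0) EX RL ⟨11 :: [9, 11, 4, 3, 4], [5, 9], 29, false⟩) (lall (memL L) [9, 11, 4, 3, 4]) = true := by decide +kernel

theorem rot11_10 : T.rot 11 [8, 5, 9, 1, 4, 7, 10] (sel (ones 63) ip11 10) = true := by decide +kernel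

theorem rot11_10r : band (Rule.ok (2 * 0) EX RL ⟨11 :: [8, 5, 9, 1, 4, 7, 10], [0, 6], 28, true⟩) (lall (memL L) [8, 5, 9, 1, 4, 7, 10]) = true := by decide +kernel

theorem rot11_11 : T.rot 11 [2, 5, 4, 1, 10, 7, 3] (sel (ones 63) ip11 11) = true := by decide +kernel

theorem rot11_11r : band (Rule.ok (2 * 0) EX RL ⟨11 :: [2, 5, 4, 1, 10, 7, 3], [6, 0, 5], 28, false⟩) (lall (memL L) [2, 5, 4, 1, 10, 7, 3]) = true := by decide +kernel

theorem cov11 : T.cover 11 [(sel (ones 63) ip11 1), (sel (ones 63) ip11 2), (sel (ones 63) ip11 3), (sel (ones 63) ip11 4), (sel (ones 63) ip11 5), (sel (ones 63) ip11 6), (sel (ones 63) ip11 7), (sel (ones 63) ip11 8), (sel (ones 63) ip11 9), (sel (ones 63) ip11 10), (sel (ones 63) ip11 11)] = true := by decide +kernel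

theorem tl11 : T.treeLt 6 11 = true := by decide +kernel

theorem rot12_1 : T.rot 12 [6] (sel (ones 63) ip12 1) = true := by decide +kernel

theorem rot12_1r : band (Rule.ok (2 * 0) EX RL ⟨12 :: [6], [], 30, false⟩) (lall (memL L) [6]) = true := by decide +kernel

theorem rot12_2 : T.rot 12 [12, 12] (sel (ones 63) ip12 2) = true := by decide +kernel

theorem rot12_2r : band (Rule.ok (2 * 0) EX RL ⟨12 :: [12, 12], [], 17, false⟩) (lall (memL L) [12, 12]) = true := by decide +kernel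

theorem rot12_3 : T.rot 12 [14, 11] (sel (ones 63) ip12 3) = true := by decide +kernel

theorem rot12_3r : band (Rule.ok (2 * 0) EX RL ⟨12 :: [14, 11], [], 30, false⟩) (lall (memL L) [14, 11]) = true := by decide +kernel

theorem rot12_4 : T.rot 12 [4, 6, 10] (sel (ones 63) ip12 4) = true := by decide +kernel

theorem rot12_4r : band (Rule.ok (2 * 0) EX RL ⟨12 :: [4, 6, 10], [11], 18, true⟩) (lall (memL L) [4, 6, 10]) = true := by decide +kernel

theorem rot12_5 : T.rot 12 [10, 6, 4] (sel (ones 63) ip12 5) = true := by decide +kernel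

theorem rot12_5r : band (Rule.ok (2 * 0) EX RL ⟨12 :: [10, 6, 4], [7, 11], 18, false⟩) (lall (memL L) [10, 6, 4]) = true := by decide +kernel

theorem rot12_6 : T.rot 12 [1, 6, 7] (sel (ones 63) ip12 6) = true := by decide +kernel

theorem rot12_6r : band (Rule.ok (2 * 0) EX RL ⟨12 :: [1, 6, 7], [11], 19, true⟩) (lall (memL L) [1, 6, 7]) = true := by decide +kernel

theorem rot12_7 : T.rot 12 [7, 6, 1] (sel (ones 63) ip12 7) = true := by decide +kernel

theorem rot12_7r : band (Rule.ok (2 * 0) EX RL ⟨12 :: [7, 6, 1], [1, 11], 19, false⟩) (lall (memL L) [7, 6, 1]) = true := by decide +kernel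

theorem rot12_8 : T.rot 12 [14, 5, 5] (sel (ones 63) ip12 8) = true := by decide +kernel

theorem rot12_8r : band (Rule.ok (2 * 0) EX RL ⟨12 :: [14, 5, 5], [], 27, true⟩) (lall (memL L) [14, 5, 5]) = true := by decide +kernel

theorem rot12_9 : T.rot 12 [8, 11, 16, 5, 2, 4, 6, 9, 4] (sel (ones 63) ip12 9) = true := by decide +kernel

theorem rot12_9r : band (Rule.ok (2 * 0) EX RL ⟨12 :: [8, 11, 16, 5, 2, 4, 6, 9, 4], [], 30, false⟩) (lall (memL L) [8, 11, 16, 5, 2, 4, 6, 9, 4]) = true := by decide +kernel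

theorem rot12_10 : T.rot 12 [10, 8, 11, 15, 5, 2, 6, 10, 3] (sel (ones 63) ip12 10) = true := by decide +kernel

theorem rot12_10r : band (Rule.ok (2 * 0) EX RL ⟨12 :: [10, 8, 11, 15, 5, 2, 6, 10, 3], [], 30, false⟩) (lall (memL L) [10, 8, 11, 15, 5, 2, 6, 10, 3]) = true := by decide +kernel

theorem cov12 : T.cover 12 [(sel (ones 63) ip12 1), (sel (ones 63) ip12 2), (sel (ones 63) ip12 3), (sel (ones 63) ip12 4), (sel (ones 63) ip12 5), (sel (ones 63) ip12 6), (sel (ones 63) ip12 7), (sel (ones 63) ip12 8), (sel (ones 63) ip12 9), (sel (ones 63) ip12 10)] = true := by decide +kernel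

theorem tl12 : T.treeLt 6 12 = true := by decide +kernel

theorem rot13_1 : T.rot 13 [13] (sel (ones 63) ip13 1) = true := by decide +kernel

theorem rot13_1r : band (Rule.ok (2 * 0) EX RL ⟨13 :: [13], [], 15, true⟩) (lall (memL L) [13]) = true := by decide +kernel

theorem rot13_2 : T.rot 13 [6, 5] (sel (ones 63) ip13 2) = true := by decide +kernel

theorem rot13_2r : band (Rule.ok (2 * 0) EX RL ⟨13 :: [6, 5], [], 30, false⟩) (lall (memL L) [6, 5]) = true := by decide +kernel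

theorem rot13_3 : T.rot 13 [6, 11, 11] (sel (ones 63) ip13 3) = true := by decide +kernel

theorem rot13_3r : band (Rule.ok (2 * 0) EX RL ⟨13 :: [6, 11, 11], [], 27, false⟩) (lall (memL L) [6, 11, 11]) = true := by decide +kernel

theorem rot13_4 : T.rot 13 [4, 4, 13, 10, 13, 4, 4, 13, 10] (sel (ones 63) ip13 4) = true := by decide +kernel

theorem rot13_4r : band (Rule.ok (2 * 0) EX RL ⟨13 :: [4, 4, 13, 10, 13, 4, 4, 13, 10], [6, 11, 9], 11, true⟩) (lall (memL L) [4, 4, 13, 10, 13, 4, 4, 13, 10]) = true := by decide +kernel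

theorem rot13_5 : T.rot 13 [10, 13, 4, 15, 4, 13, 10, 13, 4, 15, 4] (sel (ones 63) ip13 5) = true := by decide +kernel

theorem rot13_5r : band (Rule.ok (2 * 0) EX RL ⟨13 :: [10, 13, 4, 15, 4, 13, 10, 13, 4, 15, 4], [6, 11, 9, 7, 11, 9], 3, true⟩) (lall (memL L) [10, 13, 4, 15, 4, 13, 10, 13, 4, 15, 4]) = true := by decide +kernel

theorem rot13_6 : T.rot 13 [10, 13, 4, 1, 4, 13, 10, 13, 4, 7, 4] (sel (ones 63) ip13 6) = true := by decide +kernel

theorem rot13_6r : band (Rule.ok (2 * 0) EX RL ⟨13 :: [10, 13, 4, 1, 4, 13, 10, 13, 4, 7, 4], [7], 5, true⟩) (lall (memL L) [10, 13, 4, 1, 4, 13, 10, 13, 4, 7, 4]) = true := by decide +kernel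

theorem rot13_7 : T.rot 13 [4, 7, 4, 13, 10, 13, 4, 1, 4, 13, 10] (sel (ones 63) ip13 7) = true := by decide +kernel

theorem rot13_7r : band (Rule.ok (2 * 0) EX RL ⟨13 :: [4, 7, 4, 13, 10, 13, 4, 1, 4, 13, 10], [1, 6, 11, 9], 5, true⟩) (lall (memL L) [4, 7, 4, 13, 10, 13, 4, 1, 4, 13, 10]) = true := by decide +kernel

theorem rot13_8 : T.rot 13 [7, 4, 13, 10, 13, 4, 13, 4, 13, 10, 13, 4, 1] (sel (ones 63) ip13 8) = true := by decide +kernel

theorem rot13_8r : band (Rule.ok (2 * 0) EX RL ⟨13 :: [7, 4, 13, 10, 13, 4, 13, 4, 13, 10, 13, 4, 1], [6, 11, 9, 7, 11, 9, 6, 1, 11, 9], 6, true⟩) (lall (memL L) [7, 4, 13, 10, 13, 4, 13, 4, 13, 10, 13, 4, 1]) = true := by decide +kernel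

theorem rot13_9 : T.rot 13 [10, 13, 4, 7, 4, 13, 15, 4, 15, 13, 4, 4, 13, 10, 13, 4, 4, 13, 15, 4, 15, 13, 4, 1, 4] (sel (ones 63) ip13 9) = true := by decide +kernel

theorem rot13_9r : band (Rule.ok (2 * 0) EX RL ⟨13 :: [10, 13, 4, 7, 4, 13, 15, 4, 15, 13, 4, 4, 13, 10, 13, 4, 4, 13, 15, 4, 15, 13, 4, 1, 4], [6, 11, 9, 9, 3, 11, 6, 5, 10, 6, 2, 8, 6, 9, 3, 11, 6, 5, 10, 6, 2, 8, 11, 9, 6, 1, 6, 11, 9, 7, 11, 9], 4, true⟩) (lall (memL L) [10, 13, 4, 7, 4, 13, 15, 4, 15, 13, 4, 4, 13, 10, 13, 4, 4, 13, 15, 4, 15, 13, 4, 1, 4]) = true := by decide +kernel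

theorem rot13_10 : T.rot 13 [4, 7, 4, 13, 15, 4, 15, 13, 4, 4, 13, 10, 13, 4, 4, 13, 15, 4, 15, 13, 4, 1, 4, 13, 10] (sel (ones 63) ip13 10) = true := by decide +kernel

theorem rot13_10r : band (Rule.ok (2 * 0) EX RL ⟨13 :: [4, 7, 4, 13, 15, 4, 15, 13, 4, 4, 13, 10, 13, 4, 4, 13, 15, 4, 15, 13, 4, 1, 4, 13, 10], [6, 11, 9, 9, 3, 11, 6, 5, 10, 6, 2, 8, 6, 9, 3, 11, 6, 5, 10, 6, 2, 8, 11, 9, 6, 1, 6, 11, 9], 4, true⟩) (lall (memL L) [4, 7, 4, 13, 15, 4, 15, 13, 4, 4, 13, 10, 13, 4, 4, 13, 15, 4, 15, 13, 4, 1, 4, 13, 10]) = true := by decide +kernel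

theorem cov13 : T.cover 13 [(sel (ones 63) ip13 1), (sel (ones 63) ip13 2), (sel (ones 63) ip13 3), (sel (ones 63) ip13 4), (sel (ones 63) ip13 5), (sel (ones 63) ip13 6), (sel (ones 63) ip13 7), (sel (ones 63) ip13 8), (sel (ones 63) ip13 9), (sel (ones 63) ip13 10), 1] = true := by decide +kernel

theorem tl13 : Nat.beq (T.let 13).tt 0 = true := by decide +kernel

theorem rot14_1 : T.rot 14 [13] (sel (ones 63) ip14 1) = true := by decide +kernel

theorem rot14_1r : band (Rule.ok (2 * 0) EX RL ⟨14 :: [13], [], 30, false⟩) (lall (memL L) [13]) = true := by decide +kernel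

theorem rot14_2 : T.rot 14 [14] (sel (ones 63) ip14 2) = true := by decide +kernel

theorem rot14_2r : band (Rule.ok (2 * 0) EX RL ⟨14 :: [14], [], 15, false⟩) (lall (memL L) [14]) = true := by decide +kernel

theorem rot14_3 : T.rot 14 [11, 12] (sel (ones 63) ip14 3) = true := by decide +kernel

theorem rot14_3r : band (Rule.ok (2 * 0) EX RL ⟨14 :: [11, 12], [], 30, false⟩) (lall (memL L) [11, 12]) = true := by decide +kernel

theorem rot14_4 : T.rot 14 [5, 5, 12] (sel (ones 63) ip14 4) = true := by decide +kernel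

theorem rot14_4r : band (Rule.ok (2 * 0) EX RL ⟨14 :: [5, 5, 12], [10], 27, true⟩) (lall (memL L) [5, 5, 12]) = true := by decide +kernel

theorem rot14_5 : T.rot 14 [4, 14, 10, 10, 14, 4, 14, 10, 10] (sel (ones 63) ip14 5) = true := by decide +kernel

theorem rot14_5r : band (Rule.ok (2 * 0) EX RL ⟨14 :: [4, 14, 10, 10, 14, 4, 14, 10, 10], [6], 11, false⟩) (lall (memL L) [4, 14, 10, 10, 14, 4, 14, 10, 10]) = true := by decide +kernel

theorem rot14_6 : T.rot 14 [10, 10, 14, 4, 14, 10, 10, 14, 4] (sel (ones 63) ip14 6) = true := by decide +kernel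

theorem rot14_6r : band (Rule.ok (2 * 0) EX RL ⟨14 :: [10, 10, 14, 4, 14, 10, 10, 14, 4], [7, 8, 10], 11, false⟩) (lall (memL L) [10, 10, 14, 4, 14, 10, 10, 14, 4]) = true := by decide +kernel

theorem rot14_7 : T.rot 14 [10, 16, 10, 14, 4, 14, 10, 16, 10, 14, 4] (sel (ones 63) ip14 7) = true := by decide +kernel

theorem rot14_7r : band (Rule.ok (2 * 0) EX RL ⟨14 :: [10, 16, 10, 14, 4, 14, 10, 16, 10, 14, 4], [6, 11, 9, 7], 3, false⟩) (lall (memL L) [10, 16, 10, 14, 4, 14, 10, 16, 10, 14, 4]) = true := by decide +kernel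

theorem rot14_8 : T.rot 14 [4, 14, 10, 7, 10, 14, 4, 14, 10, 1, 10] (sel (ones 63) ip14 8) = true := by decide +kernel

theorem rot14_8r : band (Rule.ok (2 * 0) EX RL ⟨14 :: [4, 14, 10, 7, 10, 14, 4, 14, 10, 1, 10], [1, 6], 5, false⟩) (lall (memL L) [4, 14, 10, 7, 10, 14, 4, 14, 10, 1, 10]) = true := by decide +kernel

theorem rot14_9 : T.rot 14 [10, 7, 10, 14, 4, 14, 10, 1, 10, 14, 4] (sel (ones 63) ip14 9) = true := by decide +kernel

theorem rot14_9r : band (Rule.ok (2 * 0) EX RL ⟨14 :: [10, 7, 10, 14, 4, 14, 10, 1, 10, 14, 4], [1, 6, 11, 9, 7], 5, false⟩) (lall (memL L) [10, 7, 10, 14, 4, 14, 10, 1, 10, 14, 4]) = true := by decide +kernel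

theorem rot14_10 : T.rot 14 [10, 1, 10, 14, 4, 14, 10, 7, 10, 14, 4] (sel (ones 63) ip14 10) = true := by decide +kernel

theorem rot14_10r : band (Rule.ok (2 * 0) EX RL ⟨14 :: [10, 1, 10, 14, 4, 14, 10, 7, 10, 14, 4], [7, 8, 10], 5, false⟩) (lall (memL L) [10, 1, 10, 14, 4, 14, 10, 7, 10, 14, 4]) = true := by decide +kernel

theorem rot14_11 : T.rot 14 [7, 10, 14, 4, 14, 10, 14, 10, 14, 4, 14, 10, 1] (sel (ones 63) ip14 11) = true := by decide +kernel

theorem rot14_11r : band (Rule.ok (2 * 0) EX RL ⟨14 :: [7, 10, 14, 4, 14, 10, 14, 10, 14, 4, 14, 10, 1], [6, 11, 9, 7, 11, 9, 6, 1], 6, false⟩) (lall (memL L) [7, 10, 14, 4, 14, 10, 14, 10, 14, 4, 14, 10, 1]) = true := by decide +kernel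

theorem rot14_12 : T.rot 14 [4, 14, 10, 7, 10, 14, 16, 10, 16, 14, 10, 10, 14, 4, 14, 10, 10, 14, 16, 10, 16, 14, 10, 1, 10] (sel (ones 63) ip14 12) = true := by decide +kernel

theorem rot14_12r : band (Rule.ok (2 * 0) EX RL ⟨14 :: [4, 14, 10, 7, 10, 14, 16, 10, 16, 14, 10, 10, 14, 4, 14, 10, 10, 14, 16, 10, 16, 14, 10, 1, 10], [6, 11, 9, 9, 3, 11, 6, 5, 10, 6, 2, 8, 6, 9, 3, 11, 6, 5, 10, 6, 2, 8, 11, 9, 6, 1, 6], 4, false⟩) (lall (memL L) [4, 14, 10, 7, 10, 14, 16, 10, 16, 14, 10, 10, 14, 4, 14, 10, 10, 14, 16, 10, 16, 14, 10, 1, 10]) = true := by decide +kernel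

theorem rot14_13 : T.rot 14 [10, 7, 10, 14, 16, 10, 16, 14, 10, 10, 14, 4, 14, 10, 10, 14, 16, 10, 16, 14, 10, 1, 10, 14, 4] (sel (ones 63) ip14 13) = true := by decide +kernel

theorem rot14_13r : band (Rule.ok (2 * 0) EX RL ⟨14 :: [10, 7, 10, 14, 16, 10, 16, 14, 10, 10, 14, 4, 14, 10, 10, 14, 16, 10, 16, 14, 10, 1, 10, 14, 4], [6, 11, 9, 9, 3, 11, 6, 5, 10, 6, 2, 8, 6, 9, 3, 11, 6, 5, 10, 6, 2, 8, 11, 9, 6, 1, 6, 11, 9, 7], 4, false⟩) (lall (memL L) [10, 7, 10, 14, 16, 10, 16, 14, 10, 10, 14, 4, 14, 10, 10, 14, 16, 10, 16, 14, 10, 1, 10, 14, 4]) = true := by decide +kernel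

theorem cov14 : T.cover 14 [(sel (ones 63) ip14 1), (sel (ones 63) ip14 2), (sel (ones 63) ip14 3), (sel (ones 63) ip14 4), (sel (ones 63) ip14 5), (sel (ones 63) ip14 6), (sel (ones 63) ip14 7), (sel (ones 63) ip14 8), (sel (ones 63) ip14 9), (sel (ones 63) ip14 10), (sel (ones 63) ip14 11), (sel (ones 63) ip14 12), (sel (ones 63) ip14 13)] = true := by decide +kernel

theorem tl14 : Nat.beq (T.let 14).tt 0 = true := by decide +kernel

theorem rot15_1 : T.rot 15 [15] (sel (ones 63) ip15 1) = true := by decide +kernel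

theorem rot15_1r : band (Rule.ok (2 * 0) EX RL ⟨15 :: [15], [], 16, true⟩) (lall (memL L) [15]) = true := by decide +kernel

theorem rot15_2 : T.rot 15 [13, 15, 13] (sel (ones 63) ip15 2) = true := by decide +kernel

theorem rot15_2r : band (Rule.ok (2 * 0) EX RL ⟨15 :: [13, 15, 13], [8, 10], 8, true⟩) (lall (memL L) [13, 15, 13]) = true := by decide +kernel

theorem rot15_3 : T.rot 15 [1, 15, 1, 15, 1] (sel (ones 63) ip15 3) = true := by decide +kernel

theorem rot15_3r : band (Rule.ok (2 * 0) EX RL ⟨15 :: [1, 15, 1, 15, 1], [], 2, true⟩) (lall (memL L) [1, 15, 1, 15, 1]) = true := by decide +kernel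

theorem rot15_4 : T.rot 15 [1, 10, 7, 15, 4] (sel (ones 63) ip15 4) = true := by decide +kernel

theorem rot15_4r : band (Rule.ok (2 * 0) EX RL ⟨15 :: [1, 10, 7, 15, 4], [7], 13, true⟩) (lall (memL L) [1, 10, 7, 15, 4]) = true := by decide +kernel

theorem rot15_5 : T.rot 15 [4, 15, 1, 10, 7] (sel (ones 63) ip15 5) = true := by decide +kernel

theorem rot15_5r : band (Rule.ok (2 * 0) EX RL ⟨15 :: [4, 15, 1, 10, 7], [9, 3, 11, 6, 5, 10, 6, 2, 8], 13, true⟩) (lall (memL L) [4, 15, 1, 10, 7]) = true := by decide +kernel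

theorem rot15_6 : T.rot 15 [5, 2, 6, 10, 3, 12, 10, 8, 11] (sel (ones 63) ip15 6) = true := by decide +kernel

theorem rot15_6r : band (Rule.ok (2 * 0) EX RL ⟨15 :: [5, 2, 6, 10, 3, 12, 10, 8, 11], [], 30, false⟩) (lall (memL L) [5, 2, 6, 10, 3, 12, 10, 8, 11]) = true := by decide +kernel

theorem rot15_7 : T.rot 15 [4, 13, 10, 13, 4, 15, 4, 13, 10, 13, 4] (sel (ones 63) ip15 7) = true := by decide +kernel

theorem rot15_7r : band (Rule.ok (2 * 0) EX RL ⟨15 :: [4, 13, 10, 13, 4, 15, 4, 13, 10, 13, 4], [], 3, true⟩) (lall (memL L) [4, 13, 10, 13, 4, 15, 4, 13, 10, 13, 4]) = true := by decide +kernel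

theorem rot15_8 : T.rot 15 [4, 15, 13, 4, 13, 4, 13, 15, 4, 15, 13, 4, 13, 4, 13] (sel (ones 63) ip15 8) = true := by decide +kernel

theorem rot15_8r : band (Rule.ok (2 * 0) EX RL ⟨15 :: [4, 15, 13, 4, 13, 4, 13, 15, 4, 15, 13, 4, 13, 4, 13], [8, 10, 7, 8, 10], 7, true⟩) (lall (memL L) [4, 15, 13, 4, 13, 4, 13, 15, 4, 15, 13, 4, 13, 4, 13]) = true := by decide +kernel

theorem cov15 : T.cover 15 [(sel (ones 63) ip15 1), (sel (ones 63) ip15 2), (sel (ones 63) ip15 3), (sel (ones 63) ip15 4), (sel (ones 63) ip15 5), (sel (ones 63) ip15 6), (sel (ones 63) ip15 7), (sel (ones 63) ip15 8), 1] = true := by decide +kernel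

theorem tl15 : Nat.beq (T.let 15).tt 0 = true := by decide +kernel

theorem rot16_1 : T.rot 16 [15] (sel (ones 63) ip16 1) = true := by decide +kernel

theorem rot16_1r : band (Rule.ok (2 * 0) EX RL ⟨16 :: [15], [], 30, false⟩) (lall (memL L) [15]) = true := by decide +kernel

theorem rot16_2 : T.rot 16 [16] (sel (ones 63) ip16 2) = true := by decide +kernel

theorem rot16_2r : band (Rule.ok (2 * 0) EX RL ⟨16 :: [16], [], 16, false⟩) (lall (memL L) [16]) = true := by decide +kernel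

theorem rot16_3 : T.rot 16 [14, 16, 14] (sel (ones 63) ip16 3) = true := by decide +kernel

theorem rot16_3r : band (Rule.ok (2 * 0) EX RL ⟨16 :: [14, 16, 14], [], 8, false⟩) (lall (memL L) [14, 16, 14]) = true := by decide +kernel

theorem rot16_4 : T.rot 16 [1, 4, 7, 16, 10] (sel (ones 63) ip16 4) = true := by decide +kernel

theorem rot16_4r : band (Rule.ok (2 * 0) EX RL ⟨16 :: [1, 4, 7, 16, 10], [], 13, false⟩) (lall (memL L) [1, 4, 7, 16, 10]) = true := by decide +kernel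

theorem rot16_5 : T.rot 16 [10, 16, 1, 4, 7] (sel (ones 63) ip16 5) = true := by decide +kernel

theorem rot16_5r : band (Rule.ok (2 * 0) EX RL ⟨16 :: [10, 16, 1, 4, 7], [7, 9, 3, 7, 11, 4, 7, 10, 2, 8], 13, false⟩) (lall (memL L) [10, 16, 1, 4, 7]) = true := by decide +kernel

theorem rot16_6 : T.rot 16 [5, 2, 4, 6, 9, 4, 12, 8, 11] (sel (ones 63) ip16 6) = true := by decide +kernel

theorem rot16_6r : band (Rule.ok (2 * 0) EX RL ⟨16 :: [5, 2, 4, 6, 9, 4, 12, 8, 11], [], 30, false⟩) (lall (memL L) [5, 2, 4, 6, 9, 4, 12, 8, 11]) = true := by decide +kernel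

theorem rot16_7 : T.rot 16 [10, 14, 4, 14, 10, 16, 10, 14, 4, 14, 10] (sel (ones 63) ip16 7) = true := by decide +kernel

theorem rot16_7r : band (Rule.ok (2 * 0) EX RL ⟨16 :: [10, 14, 4, 14, 10, 16, 10, 14, 4, 14, 10], [6, 11, 9, 7, 11, 9, 6], 3, false⟩) (lall (memL L) [10, 14, 4, 14, 10, 16, 10, 14, 4, 14, 10]) = true := by decide +kernel

theorem cov16 : T.cover 16 [(sel (ones 63) ip16 1), (sel (ones 63) ip16 2), (sel (ones 63) ip16 3), (sel (ones 63) ip16 4), (sel (ones 63) ip16 5), (sel (ones 63) ip16 6), (sel (ones 63) ip16 7)] = true := by decide +kernel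

theorem tl16 : Nat.beq (T.let 16).tt 0 = true := by decide +kernel

end Cfsg.Agent.Spor.C3Sa
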