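import Cfsg.Agent.Spor.Rank
import Cfsg.Agent.Spor.C3Sa.S.Main
import Cfsg.Agent.Spor.C3Sa.L.Main
import Cfsg.Agent.Spor.C3SaN1.Main
import Cfsg.Agent.Spor.DC
import Cfsg.Agent.Spor.C3Sb.Main
import Cfsg.Agent.Spor.C3Sc.Main
import Cfsg.Agent.Spor.C3SaA1.Main

set_option autoImplicit false
set_option maxRecDepth 100000

namespace Cfsg.Agent.Spor.C3Sa

theorem bound : Bound 6 0 RL 1451520 := show Bound 6 0 RL (63 * (30 * (768))) from (C3Sa.cert.bound' (C3Sb.cert.bound C3Sc.cert.bound_nil (H := [([], 15, false), ([], 15, false), ([], 11, true), ([], 12, true), ([], 0, true), ([], 1, true), ([], 2, true), ([], 3, true), ([], 4, true), ([], 5, true), ([], 6, true), ([], 7, true), ([], 8, true), ([], 9, true), ([], 10, true)]) (by decide +kernel)) (H := [([], 0, true), ([], 1, true), ([], 2, true), ([], 3, true), ([], 4, true), ([], 5, true), ([], 6, true), ([], 7, true), ([], 8, true), ([], 9, true), ([], 10, true), ([], 11, true), ([], 12, true), ([], 13, true), ([], 14, true), ([], 15, true), ([], 16, true), ([], 17, true), ([], 18, true), ([], 19, true), ([], 20, true),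 ([], 21, true), ([], 22, true), ([], 23, true), ([], 24, true), ([], 25, true), ([], 26, true), ([], 27, true), ([], 28, true), ([], 29, true)]) (H' := [([], 15, true), ([], 16, true), ([], 0, true), ([], 1, true), ([], 2, true), ([], 3, true), ([], 4, true), ([], 5, true), ([], 6, true), ([], 7, true), ([], 8, true), ([], 9, true), ([], 10, true), ([], 11, true), ([], 12, true), ([], 13, true), ([], 14, true)]) (by decide +kernel) (by decide +kernel))

/-- the permutation group -/
noncomputable abbrev P : Subgroup (Equiv.Perm ℕ) := gsub 6 fP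
noncomputable abbrev p : ℕ → P := lift P fP

theorem lbP : 1451520 ∣ Nat.card P := by
  rw [P, L.eG]; exact L.lb

theorem cardP : Nat.card P = 1451520 := Nat.dvd_antisymm (bound _ _ cert.pres) lbP

instance instFiniteP : Finite P := Nat.finite_of_card_ne_zero (by rw [cardP]; norm_num)

theorem coatomP : IsCoatom (wsub 6 p BW) :=
  cert.self.coatom (by norm_num) ((map_wsub_lift fP BW).trans S.eH)
    ((Subgroup.range_subtype _).trans S.eG) S.hX S.hXc S.hY

theorem coreP : (wsub 6 p BW).normalCore = ⊥ :=
  cert.self.core_eq_bot P.subtype_injective ((Subgroup.range_subtype P).symm ▸ S.hfix)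

theorem presP : Pres 6 0 RL p := cert.pres.lift

theorem presN : Pres 6 0 (RL ++ L.XN) p := (cert.pres.append L.hXN).lift

def AW : List (List ℕ) := [[7, 5], [6, 4], [1, 7, 5, 0], [0, 7, 5, 1], [9, 7, 2, 8, 11, 0, 7, 8, 4, 2, 6, 0, 4, 10, 7, 8, 4, 1, 7, 2, 8]]

theorem normA : ∀ x ∈ wsub 6 p BW, ∀ a ∈ wsub 6 p AW, x * a * x⁻¹ ∈ wsub 6 p AW :=
  norm_of_list presP.ivOk (I := [[[2, 0], [2], [4, 2], [6, 2], [8, 2]], [[4], [2], [0], [8], [6]], [[6], [2], [0], [4], [8]], [[2], [2, 0], [4, 2], [6, 2], [8, 2]]])
    (consAll_sound presP.ivOk presN.rel (H := [([], 30, true), ([], 31, true), ([], 32, true), ([], 33, true), ([], 34, true), ([], 35, true), ([], 36, true), ([], 37, true), ([], 38, true), ([], 39, true), ([], 58, false), ([], 40, true), ([], 58, false), ([], 41, true), ([], 42, true), ([], 43, true), ([], 44, true), ([], 45, true), ([], 46, true), ([], 47, true)]) (by decide +kernel))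

theorem commA : ∀ x ∈ wsub 6 p AW, ∀ a ∈ wsub 6 p AW, x * a = a * x :=
  comm_of_list presP.ivOk (consAll_sound presP.ivOk presN.rel (H := [([], 58, false), ([], 48, true), ([], 49, true), ([], 50, true), ([], 51, true), ([], 48, false), ([], 58, false), ([], 52, true), ([], 53, true), ([], 54, true), ([], 49, false), ([], 52, false), ([], 58, false), ([], 55, true), ([], 56, true), ([], 50, false), ([], 53, false), ([], 55, false), ([], 58, false), ([], 57, true), ([], 51, false), ([], 54, false), ([], 56, false), ([], 57, false), ([], 58, false)]) (by decide +kernel))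

theorem casesP (M : Subgroup P) (hM : M.Normal) : M = ⊥ ∨ commutator P ≤ M :=
  iwasawa coatomP coreP normA commA
    (C3SaN1.cert.bound_nil.normalClosure presP (gsub_lift 6 fP) _ (H := [([], 0, true), ([], 1, true), ([], 2, true), ([], 3, true), ([], 4, true), ([], 5, true), ([], 6, true), ([], 7, true), ([], 8, true), ([], 9, true), ([], 10, true), ([], 11, true), ([], 12, true), ([], 13, true), ([], 14, true), ([], 15, true), ([], 16, true), ([], 17, true), ([], 18, true), ([], 19, true), ([], 20, true), ([], 21, true), ([], 22, true), ([], 23, true), ([], 24, true), ([], 25, true), ([], 26, true), ([], 27, true), ([], 28, true), ([], 29, true), ([], 30, true), ([], 31, true), ([0], 30, true), ([1], 30, true), ([], 34, true)]) (by decide +kernel)) M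

theorem perfectP : commutator P = ⊤ :=
  C3SaA1.cert.bound_nil.perfect presP (gsub_lift 6 fP) [[0], [2], [4], [6], [8], [10]] (H := [([], 0, true), ([], 1, true), ([], 2, true), ([], 3, true), ([], 4, true), ([], 5, true), ([], 6, true), ([], 7, true), ([], 8, true), ([], 9, true), ([], 10, true), ([], 11, true), ([], 12, true), ([], 13, true), ([], 14, true), ([], 15, true), ([], 16, true), ([], 17, true), ([], 18, true), ([], 19, true), ([], 20, true), ([], 21, true), ([], 22, true), ([], 23, true), ([], 24, true), ([], 25, true), ([], 26, true), ([], 27, true), ([], 28, true), ([], 29, true), ([], 31, true), ([], 32, true), ([], 33, true), ([], 34, true), ([], 35, true), ([], 38, true), ([], 39, true), ([], 40, true), ([], 41, true), ([], 45, true), ([], 46, true), ([], 47, true), ([], 52, true), ([], 53, true), ([], 59, true)]) (by decide +kernel)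

theorem simpleP : IsSimpleGroup P :=
  iwasawa_simple coatomP coreP normA commA
    (C3SaN1.cert.bound_nil.normalClosure presP (gsub_lift 6 fP) _ (H := [([], 0, true), ([], 1, true), ([], 2, true), ([], 3, true), ([], 4, true), ([], 5, true), ([], 6, true), ([], 7, true), ([], 8, true), ([], 9, true), ([], 10, true), ([], 11, true), ([], 12, true), ([], 13, true), ([], 14, true), ([], 15, true), ([], 16, true), ([], 17, true), ([], 18, true), ([], 19, true), ([], 20, true), ([], 21, true), ([], 22, true), ([], 23, true), ([], 24, true), ([], 25, true), ([], 26, true), ([], 27, true), ([], 28, true), ([], 29, true), ([], 30, true), ([], 31, true), ([0], 30, true), ([1], 30, true), ([], 34, true)]) (by decide +kernel)) perfectP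

end Cfsg.Agent.Spor.C3Sa
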