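import Cfsg.Agent.Spor.Chk

set_option autoImplicit false
set_option maxRecDepth 100000000
set_option Elab.async false
noncomputable section

namespace Cfsg.Agent.Spor.C3Sa

def m0_0 : Nat := nat_lit 0x8d394306
def m0_1 : Nat := nat_lit 0xcd800000b40
def m0_2 : Nat := nat_lit 0x66003400870072
def m0_3 : Nat := nat_lit 0x802020302010600
def m0_4 : Nat := nat_lit 0x310020122012111
def m0_5 : Nat := nat_lit 0x5441100514044141
def m0_6 : Nat := nat_lit 0x1100011010111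
def m0_7 : Nat := nat_lit 0x506020305000000
def m0_8 : Nat := nat_lit 0x53001c00850060
def m0_9 : Nat := nat_lit 0xcd900006946
def m0_10 : Nat := nat_lit 0x8d394306
def n0 : Net := Net.cons 32 m0_0 (Net.cons 16 m0_1 (Net.cons 8 m0_2 (Net.cons 4 m0_3 (Net.cons 2 m0_4 (Net.cons 1 m0_5 (Net.cons 2 m0_6 (Net.cons 4 m0_7 (Net.cons 8 m0_8 (Net.cons 16 m0_9 (Net.cons 32 m0_10 (Net.nil)))))))))))

def m1_0 : Nat := nat_lit 0xc20200008006
def m1_1 : Nat := nat_lit 0x43002800080008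
def m1_2 : Nat := nat_lit 0x301030c000a0602
def m1_3 : Nat := nat_lit 0x3201020120201020
def m1_4 : Nat := nat_lit 0x104051114011114
def m1_5 : Nat := nat_lit 0x1002101021100
def m1_6 : Nat := nat_lit 0x300030100000006
def m1_7 : Nat := nat_lit 0x10010000800a8
def m1_8 : Nat := nat_lit 0xc20200008084
def n1 : Net := Net.cons 16 m1_0 (Net.cons 8 m1_1 (Net.cons 4 m1_2 (Net.cons 2 m1_3 (Net.cons 1 m1_4 (Net.cons 2 m1_5 (Net.cons 4 m1_6 (Net.cons 8 m1_7 (Net.cons 16 m1_8 (Net.nil)))))))))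

def m2_0 : Nat := nat_lit 0x1220831a
def m2_1 : Nat := nat_lit 0x83c00000a547
def m2_2 : Nat := nat_lit 0x11003c00150022
def m2_3 : Nat := nat_lit 0x902020702050003
def m2_4 : Nat := nat_lit 0x1202020121100101
def m2_5 : Nat := nat_lit 0x4011054001450444
def m2_6 : Nat := nat_lit 0x1021002001100021
def m2_7 : Nat := nat_lit 0x4000208010004
def m2_8 : Nat := nat_lit 0x8a003a009300a2
def m2_9 : Nat := nat_lit 0x824f00000583
def m2_10 : Nat := nat_lit 0xa208398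
def n2 : Net := Net.cons 32 m2_0 (Net.cons 16 m2_1 (Net.cons 8 m2_2 (Net.cons 4 m2_3 (Net.cons 2 m2_4 (Net.cons 1 m2_5 (Net.cons 2 m2_6 (Net.cons 4 m2_7 (Net.cons 8 m2_8 (Net.cons 16 m2_9 (Net.cons 32 m2_10 (Net.nil)))))))))))

def m3_0 : Nat := nat_lit 0x6452498
def m3_1 : Nat := nat_lit 0x4a100005205
def m3_2 : Nat := nat_lit 0x1a0092008d0004
def m3_3 : Nat := nat_lit 0x204070002000f
def m3_4 : Nat := nat_lit 0x100203000131031
def m3_5 : Nat := nat_lit 0x11500040104114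
def m3_6 : Nat := nat_lit 0x21000000001001
def m3_7 : Nat := nat_lit 0x108040000030000
def m3_8 : Nat := nat_lit 0x1a0082000f0001
def m3_9 : Nat := nat_lit 0x10300000494d
def m3_10 : Nat := nat_lit 0x2512478
def n3 : Net := Net.cons 32 m3_0 (Net.cons 16 m3_1 (Net.cons 8 m3_2 (Net.cons 4 m3_3 (Net.cons 2 m3_4 (Net.cons 1 m3_5 (Net.cons 2 m3_6 (Net.cons 4 m3_7 (Net.cons 8 m3_8 (Net.cons 16 m3_9 (Net.cons 32 m3_10 (Net.nil)))))))))))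

def m4_0 : Nat := nat_lit 0x120602d1
def m4_1 : Nat := nat_lit 0x33e000002512
def m4_2 : Nat := nat_lit 0x1a008200510032
def m4_3 : Nat := nat_lit 0x20c02020900050a
def m4_4 : Nat := nat_lit 0x120100112200001
def m4_5 : Nat := nat_lit 0x1441104011010541
def m4_6 : Nat := nat_lit 0x111000010020000
def m4_7 : Nat := nat_lit 0x108020000000108
def m4_8 : Nat := nat_lit 0x3000200120030
def m4_9 : Nat := nat_lit 0x33c00000279d
def m4_10 : Nat := nat_lit 0x181d0194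
def n4 : Net := Net.cons 32 m4_0 (Net.cons 16 m4_1 (Net.cons 8 m4_2 (Net.cons 4 m4_3 (Net.cons 2 m4_4 (Net.cons 1 m4_5 (Net.cons 2 m4_6 (Net.cons 4 m4_7 (Net.cons 8 m4_8 (Net.cons 16 m4_9 (Net.cons 32 m4_10 (Net.nil)))))))))))

def m5_0 : Nat := nat_lit 0x71408000
def m5_1 : Nat := nat_lit 0x172800003129
def m5_2 : Nat := nat_lit 0x200e000500094
def m5_3 : Nat := nat_lit 0x3010000090c0807
def m5_4 : Nat := nat_lit 0x1000110330000301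
def m5_5 : Nat := nat_lit 0x1014401414451
def m5_6 : Nat := nat_lit 0x10000021001
def m5_7 : Nat := nat_lit 0x100020c01060801
def m5_8 : Nat := nat_lit 0x4200e000400015
def m5_9 : Nat := nat_lit 0x2728000030cc
def m5_10 : Nat := nat_lit 0x71408000
def n5 : Net := Net.cons 32 m5_0 (Net.cons 16 m5_1 (Net.cons 8 m5_2 (Net.cons 4 m5_3 (Net.cons 2 m5_4 (Net.cons 1 m5_5 (Net.cons 2 m5_6 (Net.cons 4 m5_7 (Net.cons 8 m5_8 (Net.cons 16 m5_9 (Net.cons 32 m5_10 (Net.nil)))))))))))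

def m6_0 : Nat := nat_lit 0x300303a4
def m6_1 : Nat := nat_lit 0x842100001a80
def m6_2 : Nat := nat_lit 0x1000840052009e
def m6_3 : Nat := nat_lit 0x90b020700000c06
def m6_4 : Nat := nat_lit 0x201211100202200
def m6_5 : Nat := nat_lit 0x1144001144044140
def m6_6 : Nat := nat_lit 0x2010001100001100
def m6_7 : Nat := nat_lit 0x204020000000304
def m6_8 : Nat := nat_lit 0x1000840040001a
def m6_9 : Nat := nat_lit 0x842100001a80
def m6_10 : Nat := nat_lit 0x300303a4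
def n6 : Net := Net.cons 32 m6_0 (Net.cons 16 m6_1 (Net.cons 8 m6_2 (Net.cons 4 m6_3 (Net.cons 2 m6_4 (Net.cons 1 m6_5 (Net.cons 2 m6_6 (Net.cons 4 m6_7 (Net.cons 8 m6_8 (Net.cons 16 m6_9 (Net.cons 32 m6_10 (Net.nil)))))))))))

def m7_0 : Nat := nat_lit 0x8200d4
def m7_1 : Nat := nat_lit 0x38a100008044
def m7_2 : Nat := nat_lit 0x5000300840042
def m7_3 : Nat := nat_lit 0x8040008020602
def m7_4 : Nat := nat_lit 0x332011102102010
def m7_5 : Nat := nat_lit 0x1550144010150544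
def m7_6 : Nat := nat_lit 0x11000100010
def m7_7 : Nat := nat_lit 0x8000008020204
def m7_8 : Nat := nat_lit 0x500010084000e
def m7_9 : Nat := nat_lit 0xa000008044
def m7_10 : Nat := nat_lit 0x8200d4
def n7 : Net := Net.cons 32 m7_0 (Net.cons 16 m7_1 (Net.cons 8 m7_2 (Net.cons 4 m7_3 (Net.cons 2 m7_4 (Net.cons 1 m7_5 (Net.cons 2 m7_6 (Net.cons 4 m7_7 (Net.cons 8 m7_8 (Net.cons 16 m7_9 (Net.cons 32 m7_10 (Net.nil)))))))))))

def cl1 : Nat := nat_lit 0x7fffffffffffffff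
def tt1 : Nat := nat_lit 0x4000042000108000
def tm1_0 : Nat := nat_lit 0x4dd47a37a64075c0
def tm1_1 : Nat := nat_lit 0x183d4625c570dde
def tm1_2 : Nat := nat_lit 0xe2c01dd80b4c800
def tm1_3 : Nat := nat_lit 0x3c0d040d8146800
def tm1_4 : Nat := nat_lit 0xdec81ba04400000
def tm1_5 : Nat := nat_lit 0x6000000000000000
def ip1_0 : Nat := nat_lit 0x8b6eab6e6d2710a
def ip1_1 : Nat := nat_lit 0x604344c4d092e998
def ip1_2 : Nat := nat_lit 0xded91ab8c652046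
def ip1_3 : Nat := nat_lit 0x2260409840040c10
def ip1 : List Nat := [ip1_0, ip1_1, ip1_2, ip1_3]
def l1 : Let := ⟨0, false, cl1, tt1, [tm1_0, tm1_1, tm1_2, tm1_3, tm1_4, tm1_5]⟩

def cl2 : Nat := nat_lit 0x7fffffffffffffff
def tt2 : Nat := nat_lit 0x2000000000000010
def tm2_0 : Nat := nat_lit 0x31511fdf411597ec
def tm2_1 : Nat := nat_lit 0x56aefe65fe93e00d
def tm2_2 : Nat := nat_lit 0x159e1dff9fde5340
def tm2_3 : Nat := nat_lit 0x17b3c24040974630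
def tm2_4 : Nat := nat_lit 0x17bd8fba05680800
def tm2_5 : Nat := nat_lit 0x6000000000000000
def ip2_0 : Nat := nat_lit 0x64f9e9cc63ff57cd
def ip2_1 : Nat := nat_lit 0x7733bdddbef37f6d
def ip2_2 : Nat := nat_lit 0xacc232450c8010
def ip2 : List Nat := [ip2_0, ip2_1, ip2_2]
def l2 : Let := ⟨1, false, cl2, tt2, [tm2_0, tm2_1, tm2_2, tm2_3, tm2_4, tm2_5]⟩

def cl3 : Nat := nat_lit 0x7fffffffffffffff
def tt3 : Nat := nat_lit 0x4808801040200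
def tm3_0 : Nat := nat_lit 0x496647b286cae2b2
def tm3_1 : Nat := nat_lit 0x76d806cc1b842704
def tm3_2 : Nat := nat_lit 0x1d3ff540c2020087
def tm3_3 : Nat := nat_lit 0x1d638a001002b730
def tm3_4 : Nat := nat_lit 0x1d7fff64c2904000
def tm3_5 : Nat := nat_lit 0x6000000000000000
def ip3_0 : Nat := nat_lit 0x629a5276ceca8420
def ip3_1 : Nat := nat_lit 0x71fffba859147395
def ip3_2 : Nat := nat_lit 0x6f62af448a92d5b3
def ip3 : List Nat := [ip3_0, ip3_1, ip3_2]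
def l3 : Let := ⟨2, false, cl3, tt3, [tm3_0, tm3_1, tm3_2, tm3_3, tm3_4, tm3_5]⟩

def cl4 : Nat := nat_lit 0x7fffffffffffffff
def tt4 : Nat := nat_lit 0x620000000000420
def tm4_0 : Nat := nat_lit 0x7e84d1e63bada280
def tm4_1 : Nat := nat_lit 0x4002edbbc4e54fcc
def tm4_2 : Nat := nat_lit 0x4daa6c2d67179080
def tm4_3 : Nat := nat_lit 0x4fe0800400170220
def tm4_4 : Nat := nat_lit 0x4feccdb245480000
def tm4_5 : Nat := nat_lit 0x2000000000000000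
def ip4_0 : Nat := nat_lit 0x384698caf8c56388
def ip4_1 : Nat := nat_lit 0x62224c34e497d528
def ip4_2 : Nat := nat_lit 0xdc8e50122211844
def ip4_3 : Nat := nat_lit 0x6884088a015c0280
def ip4 : List Nat := [ip4_0, ip4_1, ip4_2, ip4_3]
def l4 : Let := ⟨3, false, cl4, tt4, [tm4_0, tm4_1, tm4_2, tm4_3, tm4_4, tm4_5]⟩

def cl5 : Nat := nat_lit 0x7fffffffffffffff
def tt5 : Nat := nat_lit 0x880000000000002
def tm5_0 : Nat := nat_lit 0x3a9f7c5046c1bb8c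
def tm5_1 : Nat := nat_lit 0x11420048b6d15092
def tm5_2 : Nat := nat_lit 0x119c3f860b1513d8
def tm5_3 : Nat := nat_lit 0x1f80000002050800
def tm5_4 : Nat := nat_lit 0x1f9e3fffbdeae420
def tm5_5 : Nat := nat_lit 0x6000000000000000
def ip5_0 : Nat := nat_lit 0x39577abc7fae7282
def ip5_1 : Nat := nat_lit 0x2e9e3bb32e699d7e
def ip5_2 : Nat := nat_lit 0x598414fa0d5e6302
def ip5_3 : Nat := nat_lit 0x40000490800090
def ip5 : List Nat := [ip5_0, ip5_1, ip5_2, ip5_3]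
def l5 : Let := ⟨4, false, cl5, tt5, [tm5_0, tm5_1, tm5_2, tm5_3, tm5_4, tm5_5]⟩

def cl6 : Nat := nat_lit 0x7fffffffffffffff
def tt6 : Nat := nat_lit 0x108010100210844
def tm6_0 : Nat := nat_lit 0x627a0c84fa9e4188
def tm6_1 : Nat := nat_lit 0x5afd5f59392538c4
def tm6_2 : Nat := nat_lit 0x53997dc047140280
def tm6_3 : Nat := nat_lit 0x5dc0104002140280
def tm6_4 : Nat := nat_lit 0x5fdd4db845080000
def tm6_5 : Nat := nat_lit 0x2000000000000000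
def ip6_0 : Nat := nat_lit 0x28df2e8cbf8e7308
def ip6_1 : Nat := nat_lit 0x69997b81643d18c4
def ip6_2 : Nat := nat_lit 0x76357ed83f1c3280
def ip6_3 : Nat := nat_lit 0x40002040000000
def ip6 : List Nat := [ip6_0, ip6_1, ip6_2, ip6_3]
def l6 : Let := ⟨5, false, cl6, tt6, [tm6_0, tm6_1, tm6_2, tm6_3, tm6_4, tm6_5]⟩

def cl7 : Nat := nat_lit 0x7fffffffffffffff
def tt7 : Nat := nat_lit 0x102a0022001000
def tm7_0 : Nat := nat_lit 0x6dc526e214b89361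
def tm7_1 : Nat := nat_lit 0x183fa07e60c51ee
def tm7_2 : Nat := nat_lit 0xe3e00d802a74600
def tm7_3 : Nat := nat_lit 0x3c3f04032044200
def tm7_4 : Nat := nat_lit 0xdfc829a04080000
def tm7_5 : Nat := nat_lit 0x3000000000000000
def ip7_0 : Nat := nat_lit 0x571d7429403180e5
def ip7_1 : Nat := nat_lit 0x3f9aba93242d14e6
def ip7_2 : Nat := nat_lit 0xaa1c29ec48a432a
def ip7_3 : Nat := nat_lit 0x1064005812040080
def ip7 : List Nat := [ip7_0, ip7_1, ip7_2, ip7_3]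
def l7 : Let := ⟨0, true, cl7, tt7, [tm7_0, tm7_1, tm7_2, tm7_3, tm7_4, tm7_5]⟩

def cl8 : Nat := nat_lit 0x7fffffffffffffff
def tt8 : Nat := nat_lit 0x40000000000080
def tm8_0 : Nat := nat_lit 0x394aa7bd60387d5c
def tm8_1 : Nat := nat_lit 0x4eb7bc67f3b3822d
def tm8_2 : Nat := nat_lit 0xd9e2ffd87dbdb40
def tm8_3 : Nat := nat_lit 0xfe98046c0b027c0
def tm8_4 : Nat := nat_lit 0xffc8fba0d4c0000
def tm8_5 : Nat := nat_lit 0x5000000000000000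
def ip8_0 : Nat := nat_lit 0x7372bf969af47b9d
def ip8_1 : Nat := nat_lit 0x5feb35f7deffffed
def ip8_2 : Nat := nat_lit 0xb58a0264080040
def ip8_3 : Nat := nat_lit 0x801000000
def ip8 : List Nat := [ip8_0, ip8_1, ip8_2, ip8_3]
def l8 : Let := ⟨1, true, cl8, tt8, [tm8_0, tm8_1, tm8_2, tm8_3, tm8_4, tm8_5]⟩

def cl9 : Nat := nat_lit 0x7fffffffffffffff
def tt9 : Nat := nat_lit 0x1204480000
def tm9_0 : Nat := nat_lit 0x43b4d5a8bbc64336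
def tm9_1 : Nat := nat_lit 0x7c8b0476ac682188
def tm9_2 : Nat := nat_lit 0xf7a772540820087
def tm9_3 : Nat := nat_lit 0xff00a0230423138
def tm9_4 : Nat := nat_lit 0xffa7f65e2904000
def tm9_5 : Nat := nat_lit 0x6000000000000000
def ip9_0 : Nat := nat_lit 0x2707c0ac63240204
def ip9_1 : Nat := nat_lit 0x69d37a166ef8519f
def ip9_2 : Nat := nat_lit 0x77b82f61b0b2703b
def ip9 : List Nat := [ip9_0, ip9_1, ip9_2]
def l9 : Let := ⟨2, true, cl9, tt9, [tm9_0, tm9_1, tm9_2, tm9_3, tm9_4, tm9_5]⟩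

def cl10 : Nat := nat_lit 0x7fffffffffffffff
def tt10 : Nat := nat_lit 0x1000104018002000
def tm10_0 : Nat := nat_lit 0x7f6047f3bc040563
def tm10_1 : Nat := nat_lit 0x40067f0acdef614e
def tm10_2 : Nat := nat_lit 0x591efcc5710c8242
def tm10_3 : Nat := nat_lit 0x59518244000403c0
def tm10_4 : Nat := nat_lit 0x595dcfba45400000
def tm10_5 : Nat := nat_lit 0x2000000000000000
def ip10_0 : Nat := nat_lit 0x173d7b9100218525
def ip10_1 : Nat := nat_lit 0x795cf54d3925a284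
def ip10_2 : Nat := nat_lit 0x38034a00e086c048
def ip10_3 : Nat := nat_lit 0x580408b604480142
def ip10 : List Nat := [ip10_0, ip10_1, ip10_2, ip10_3]
def l10 : Let := ⟨3, true, cl10, tt10, [tm10_0, tm10_1, tm10_2, tm10_3, tm10_4, tm10_5]⟩

def cl11 : Nat := nat_lit 0x7fffffffffffffff
def tt11 : Nat := nat_lit 0x1400040000000
def tm11_0 : Nat := nat_lit 0x3afa3cc1405bd8c2
def tm11_1 : Nat := nat_lit 0x1100b2aa4c121895
def tm11_2 : Nat := nat_lit 0x115f4d61813a13d8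
def tm11_3 : Nat := nat_lit 0x1760000000124200
def tm11_4 : Nat := nat_lit 0x177f7fdfcfe58c20
def tm11_5 : Nat := nat_lit 0x6000000000000000
def ip11_0 : Nat := nat_lit 0x59c4d4be475802c2
def ip11_1 : Nat := nat_lit 0x476cd5e5c277cd7d
def ip11_2 : Nat := nat_lit 0x225b6b1b47ad1ac4
def ip11_3 : Nat := nat_lit 0x1104808008400010
def ip11 : List Nat := [ip11_0, ip11_1, ip11_2, ip11_3]
def l11 : Let := ⟨4, true, cl11, tt11, [tm11_0, tm11_1, tm11_2, tm11_3, tm11_4, tm11_5]⟩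

def cl12 : Nat := nat_lit 0x7fffffffffffffff
def tt12 : Nat := nat_lit 0x2000480824108
def tm12_0 : Nat := nat_lit 0x6529fd81807d1a44
def tm12_1 : Nat := nat_lit 0x5cb5fe5edb864308
def tm12_2 : Nat := nat_lit 0x50e34ec255541280
def tm12_3 : Nat := nat_lit 0x5ac0804010141280
def tm12_4 : Nat := nat_lit 0x5ae5ceba45480000
def tm12_5 : Nat := nat_lit 0x2000000000000000
def ip12_0 : Nat := nat_lit 0x57a8415310610a44
def ip12_1 : Nat := nat_lit 0x60d3ea86d68e4308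
def ip12_2 : Nat := nat_lit 0x76373eda1f1c1280
def ip12_3 : Nat := nat_lit 0x800802000400000
def ip12 : List Nat := [ip12_0, ip12_1, ip12_2, ip12_3]
def l12 : Let := ⟨5, true, cl12, tt12, [tm12_0, tm12_1, tm12_2, tm12_3, tm12_4, tm12_5]⟩

def cl13 : Nat := nat_lit 0x1efd7fe7dededfff
def tm13_0 : Nat := nat_lit 0x66547078e1404fc
def tm13_1 : Nat := nat_lit 0x14394626de52163e
def tm13_2 : Nat := nat_lit 0x14fd75e552121ff0
def tm13_3 : Nat := nat_lit 0x1ac00824021256a0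
def tm13_4 : Nat := nat_lit 0x1efd7fc3dccc8800
def ip13_0 : Nat := nat_lit 0x67c010102144b5c
def ip13_1 : Nat := nat_lit 0x89d33a35cc814d6
def ip13_2 : Nat := nat_lit 0x1024044080820420
def ip13_3 : Nat := nat_lit 0x400480410008000
def ip13 : List Nat := [ip13_0, ip13_1, ip13_2, ip13_3]
def l13 : Let := ⟨6, false, cl13, 0x0, [tm13_0, tm13_1, tm13_2, tm13_3, tm13_4, 0x0]⟩

def cl14 : Nat := nat_lit 0xeee5c67feffffff
def tm14_0 : Nat := nat_lit 0xca6446108cbfa07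
def tm14_1 : Nat := nat_lit 0x42a4460fad2d9ee
def tm14_2 : Nat := nat_lit 0x4ec542376b2f2e0
def tm14_3 : Nat := nat_lit 0xac00820029292b0
def tm14_4 : Nat := nat_lit 0xeee5c47fc6d2c00
def ip14_0 : Nat := nat_lit 0x6625c44ca35ca49
def ip14_1 : Nat := nat_lit 0xec25862ceffdefe
def ip14_2 : Nat := nat_lit 0x428040130022120
def ip14_3 : Nat := nat_lit 0x2c480500808400
def ip14 : List Nat := [ip14_0, ip14_1, ip14_2, ip14_3]
def l14 : Let := ⟨6, true, cl14, 0x0, [tm14_0, tm14_1, tm14_2, tm14_3, tm14_4, 0x0]⟩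

def cl15 : Nat := nat_lit 0x7ae76cbbbe0bf84b
def tm15_0 : Nat := nat_lit 0x220420aa8a00b842
def tm15_1 : Nat := nat_lit 0x58e02001b8010802
def tm15_2 : Nat := nat_lit 0x10a2209a360bf848
def tm15_3 : Nat := nat_lit 0x1ac56c210a000800
def tm15_4 : Nat := nat_lit 0x1ae76cbbb60af00a
def tm15_5 : Nat := nat_lit 0x6000000000000000
def ip15_0 : Nat := nat_lit 0x604000b820022000
def ip15_1 : Nat := nat_lit 0x48036c138608b04a
def ip15_2 : Nat := nat_lit 0x32274c38bc03f842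
def ip15_3 : Nat := nat_lit 0x80000000000000
def ip15 : List Nat := [ip15_0, ip15_1, ip15_2, ip15_3]
def l15 : Let := ⟨7, false, cl15, 0x0, [tm15_0, tm15_1, tm15_2, tm15_3, tm15_4, tm15_5]⟩

def cl16 : Nat := nat_lit 0xa654ef9fc6c95c3
def tm16_0 : Nat := nat_lit 0x244021888049143
def tm16_1 : Nat := nat_lit 0x8200021b8240002
def tm16_2 : Nat := nat_lit 0x2002d8346c95c0
def tm16_3 : Nat := nat_lit 0xa454c2108040000
def tm16_4 : Nat := nat_lit 0xa654ef9f4489582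
def ip16_0 : Nat := nat_lit 0xa2402812c640501
def ip16_1 : Nat := nat_lit 0x8014ef1c4489042
def ip16_2 : Nat := nat_lit 0x2654cc8f82c95c2
def ip16 : List Nat := [ip16_0, ip16_1, ip16_2]
def l16 : Let := ⟨7, true, cl16, 0x0, [tm16_0, tm16_1, tm16_2, tm16_3, tm16_4, 0x0]⟩

def NT : List Net := [n0, n1, n2, n3, n4, n5, n6, n7]
def LT : List Let := [⟨0, false, 0, 0, []⟩, l1, l2, l3, l4, l5, l6, l7, l8, l9, l10, l11, l12, l13, l14, l15, l16]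
def T : Tab := ⟨NT, LT⟩
def EX : List (List Nat) := [[], [0], [2], [4], [6], [8], [10], [1], [3], [5], [7], [9], [11], [11, 9], [8, 10], [9, 3, 11, 6, 5, 10, 6, 2, 8], [9, 3, 7, 11, 4, 7, 10, 2, 8]]
def RL : List (List Nat) := [[0, 0, 0], [6, 11, 9, 9, 3, 11, 6, 5, 10, 6, 2, 8, 6, 9, 3, 11, 6, 5, 10, 6, 2, 8, 11, 9, 6, 9, 3, 11, 6, 5, 10, 6, 2, 8, 6, 11, 9, 9, 3, 11, 6, 5, 10, 6, 2, 8, 6, 9, 3, 11, 6, 5, 10, 6, 2, 8, 11, 9, 6, 9, 3, 11, 6, 5, 10, 6, 2, 8], [0, 9, 3, 11, 6, 5, 10, 6, 2, 8, 0, 9, 3, 11, 6, 5, 10, 6, 2, 8, 0, 9, 3, 11, 6, 5, 10, 6, 2, 8], [6, 11, 9, 7, 11, 9, 6, 9, 3, 11, 6, 5, 10, 6, 2, 8, 6, 11, 9, 7, 11, 9, 6, 9, 3, 11, 6, 5, 10, 6, 2, 8], [6, 11, 9, 9, 3, 11, 6, 5, 10, 6, 2, 8, 6, 9, 3, 11, 6, 5, 10, 6, 2, 8, 11, 9, 6, 1, 6, 11, 9, 7, 11, 9, 6, 0, 6, 11, 9, 9, 3, 11, 6, 5, 10, 6, 2, 8, 6, 9, 3, 11, 6, 5, 10, 6, 2, 8, 11, 9, 6, 6, 11, 9, 7,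 11, 9, 6], [1, 6, 11, 9, 7, 11, 9, 6, 0, 6, 11, 9, 7, 11, 9, 6], [6, 11, 9, 7, 11, 9, 6, 1, 11, 9, 0, 6, 11, 9, 7, 11, 9, 6, 11, 9], [6, 11, 9, 9, 3, 11, 6, 5, 10, 6, 2, 8, 6, 9, 3, 11, 6, 5, 10, 6, 2, 8, 11, 9, 6, 11, 9, 6, 11, 9, 9, 3, 11, 6, 5, 10, 6, 2, 8, 6, 9, 3, 11, 6, 5, 10, 6, 2, 8, 11, 9, 6, 11, 9], [9, 3, 11, 6, 5, 10, 6, 2, 8, 11, 9, 9, 3, 11, 6, 5, 10, 6, 2, 8, 11, 9], [0, 6, 11, 9, 9, 3, 11, 6, 5, 10, 6, 2, 8, 6, 9, 3, 11, 6, 5, 10, 6, 2, 8, 11, 9, 6, 0, 6, 11, 9, 9, 3, 11, 6, 5, 10, 6, 2, 8, 6, 9, 3, 11, 6, 5, 10, 6, 2, 8, 11, 9, 6, 0, 6, 11, 9, 9, 3, 11, 6, 5, 10, 6, 2, 8, 6, 9, 3, 11, 6, 5, 10, 6, 2, 8, 11, 9, 6, 0, 6, 11, 9, 9, 3, 11, 6, 5, 10, 6, 2, 8, 6, 9, 3, 11, 6, 5, 10, 6, 2, 8, 11, 9, 6], [0, 9, 3, 11, 6, 5, 10, 6, 2, 8, 6, 11, 9, 9, 3, 11, 6, 5, 10, 6, 2, 8, 6, 9, 3, 11, 6, 5, 10, 6, 2, 8, 11, 9, 6, 0, 6, 11, 9, 9, 3, 11, 6, 5, 10,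 6, 2, 8, 6, 9, 3, 11, 6, 5, 10, 6, 2, 8, 11, 9, 6, 9, 3, 11, 6, 5, 10, 6, 2, 8, 0, 6, 11, 9, 9, 3, 11, 6, 5, 10, 6, 2, 8, 6, 9, 3, 11, 6, 5, 10, 6, 2, 8, 11, 9, 6, 9, 3, 11, 6, 5, 10, 6, 2, 8, 0, 6, 11, 9, 9, 3, 11, 6, 5, 10, 6, 2, 8, 6, 9, 3, 11, 6, 5, 10, 6, 2, 8, 11, 9, 6, 9, 3, 11, 6, 5, 10, 6, 2, 8], [6, 11, 9, 7, 11, 9, 6, 6, 11, 9, 7, 11, 9, 6], [6, 11, 9, 9, 3, 11, 6, 5, 10, 6, 2, 8, 6, 9, 3, 11, 6, 5, 10, 6, 2, 8, 11, 9, 6, 6, 11, 9, 9, 3, 11, 6, 5, 10, 6, 2, 8, 6, 9, 3, 11, 6, 5, 10, 6, 2, 8, 11, 9, 6], [9, 3, 11, 6, 5, 10, 6, 2, 8, 1, 7, 0, 9, 3, 11, 6, 5, 10, 6, 2, 8, 6], [1, 7, 1, 7, 9, 3, 11, 6, 5, 10, 6, 2, 8, 6, 9, 3, 11, 6, 5, 10, 6, 2, 8, 6, 0, 6], [11, 9, 11, 9], [9, 3, 11, 6, 5, 10, 6, 11, 6, 5, 10, 6, 2, 8], [10, 10, 10], [11, 7, 10, 6], [11, 1, 10, 0], [4, 4, 4], [6, 6, 6], [1, 9, 0, 8], [6, 0, 3, 7, 1], [0, 9, 2, 0, 2, 8], [7, 2, 7, 2],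 [8, 4, 8, 4], [8, 8, 8], [6, 0, 5, 8, 3, 9, 7, 1], [8, 7, 5, 7, 8, 4]]
def XL : List (List Nat) := []
def BW : List (List Nat) := [[11, 9], [9, 3, 11, 6, 5, 10, 6, 2, 8], [0], [6]]
def IV : Nat := 0xf100d0e0605040302010c0b0a09080700
def L : List Nat := [1, 2, 3, 4, 5, 6, 7, 8, 9, 10, 11, 12, 13, 14, 15, 16]
def gs : List Nat := [1, 2, 3, 4, 5, 6]
def base : List Nat := [13, 15, 1, 4]

end Cfsg.Agent.Spor.C3Sa
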